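import Cfsg.Agent.H7.Gol.Code
import Cfsg.Agent.H7.Sim

/-! Order, transitivity and simplicity of the Mathieu groups. -/

set_option autoImplicit false
set_option maxRecDepth 100000

namespace CfsgH7.Gol

open Cfsg MulAction
open scoped Pointwise

/-- Successive rounds of refinement end with all points. -/
noncomputable def rndsOk (Ls : List (List Nat)) : Nat → Bool :=
  List.rec (motive := fun _ => Nat → Bool) (fun F => subs (ones 24) F)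
    (fun L _ ih F => band (lall (octOk F) L) (force (rnd F L 24) ih)) Ls

theorem fx_one {x : M24} {F : Nat} (hF : Fx px 24 x F) (Ls : List (List Nat)) (h : rndsOk Ls F = true) :
    x = 1 := by
  induction Ls generalizing F with
  | nil => exact I.fx_all hF h
  | cons L Ls ih =>
    obtain ⟨h1, h2⟩ := band_iff.1 h
    rw [force_eq] at h2
    exact ih (fx_rnd hF L h1) h2

theorem fix_list {x : M24} {X : Nat} {ψ : Finset GolayPt → Prop} (h : Rb cpt 4096 X ψ)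
    (hx : ∀ y, ψ y → x • y = y) {L : List Nat}
    (hL : lall (fun o => band (isCw o) (tb X (Nat.land o 4095))) L = true) : ∀ o ∈ L, x • S o = S o := by
  intro o ho
  obtain ⟨h1, h2⟩ := band_iff.1 (lall_iff.1 hL o ho)
  rw [← cpt_of h1]
  exact hx _ ((h _ (Nat.lt_succ_of_le Nat.and_le_right)).1 (tb_eq X _ ▸ h2))

theorem fx_zero (x : M24) : Fx px 24 x 0 := fun i _ h => by simp at h

theorem base7 : IsBase (⊤ : Subgroup M24) px [4,5,3,2,1,0,23] := fun x _ h =>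
  fx_one (fx_lm (K := ⊤) ⟨trivial, h⟩) [[0xc12017, 0x843039, 0xb01036, 0x50803d, 0x82402f, 0x84805e, 0x8900bc, 0x8081b3, 0xc0237, 0x149f], [0x49f002]] (by decide +kernel)

theorem le24 : Nat.card (⊤ : Subgroup M24) ≤ 244823040 := by
  have h0 := I.card_fix_le (K := (⊤ : Subgroup M24)) (bs := []) (L := []) (b := 23) (c := 24) (d := 5)
    (by simp) (by decide +kernel)
  have h1 := I.card_fix_le (K := (⊤ : Subgroup M24)) (bs := [23]) (L := []) (b := 0) (c := 23) (d := 5)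
    (by simp) (by decide +kernel)
  have h2 := I.card_fix_le (K := (⊤ : Subgroup M24)) (bs := [0,23]) (L := []) (b := 1) (c := 22) (d := 5)
    (by simp) (by decide +kernel)
  have h3 := I.card_fix_le (K := (⊤ : Subgroup M24)) (bs := [1,0,23]) (L := []) (b := 2) (c := 21) (d := 5)
    (by simp) (by decide +kernel)
  have h4 := I.card_fix_le (K := (⊤ : Subgroup M24)) (bs := [2,1,0,23]) (L := []) (b := 3) (c := 20) (d := 5)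
    (by simp) (by decide +kernel)
  have h5 := I.card_fix_le (K := (⊤ : Subgroup M24)) (bs := [3,2,1,0,23]) (L := [0x82402f]) (b := 5) (c := 3) (d := 5)
    (fun x hx => oct_fix (fx_lm hx) (by decide +kernel)) (by decide +kernel)
  have h6 := I.card_fix_le (K := (⊤ : Subgroup M24)) (bs := [5,3,2,1,0,23]) (L := [0x82402f]) (b := 4) (c := 16) (d := 5)
    (fun x hx => oct_fix (fx_lm hx) (by decide +kernel)) (by decide +kernel)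
  have h7 : fixS px (⊤ : Subgroup M24) [4,5,3,2,1,0,23] = ⊥ := by
    rw [eq_bot_iff]; exact fun x hx => base7 x trivial hx.2
  rw [h7, Subgroup.card_bot] at h6
  rw [fixS_nil] at h0
  omega

def W24 : List (List Nat) := [[0],[2],[4]]

theorem ge24 : 244823040 ≤ Nat.card (genW gm W24) :=
  RP.card_geS I.inj W24 [⟨23, [[2],[0,2]], [0,1,0,1,0,1,0,1,0,1,0,1], 24⟩,
  ⟨0, [[0]], [0,0,0,0,0,0,0,0,0,0,0,0,0,0,0,0,0,0,0,0,0,0], 23⟩,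
  ⟨1, [[4],[0,4,0,4,0],[1,1,5,5,0]], [0,0,0,0,2,0,0,0,0,1], 22⟩,
  ⟨2, [[1,5,1,5,1,5],[1,1,5,5,0,5,5],[4,1,4,4,0,0,4]], [0,1,2,0,1,1,2], 21⟩,
  ⟨3, [[0,4,0,4,0,4],[1,1,4,1,5,1,1,4,4]], [0,1,1,0,1,0,1,1], 20⟩,
  ⟨5, [[1,1,1,1,5,1,4,0,5,5,0]], [0,0], 3⟩,
  ⟨4, [[1,5,5,1,5,0,0,0,4,0,5,5],[4,0,5,0,0,0,5,0,4,0,5,5],[5,1,1,1,4,1,4,1,5,1,4,4],[4,4,1,4,1,1,1,4,1,4,1,4,4]], [0,1,2,3], 16⟩] 5 (by decide +kernel)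

theorem gen24 : genW gm W24 = ⊤ := eq_of_card_le le_top (le24.trans ge24)

theorem card24t : Nat.card (⊤ : Subgroup M24) = 244823040 := le_antisymm le24 (gen24 ▸ ge24)

theorem card24 : Nat.card M24 = 244823040 := by rw [← card24t, Subgroup.card_top]

theorem tt0 : TT (⊤ : Subgroup M24) Set.univ (([] : List Nat).map px) := trivial

theorem tt1 : TT (⊤ : Subgroup M24) Set.univ ([23].map px) :=
  RP.tt_cons I (a := ones 24) (fun i hi _ => by rw [ones_testBit]; simpa using hi) tt0 23 [[2],[0,2]] [0,1,0,1,0,1,0,1,0,1,0,1] (mem_top' _) (by decide +kernel)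

theorem tt2 : TT (⊤ : Subgroup M24) Set.univ ([0,23].map px) :=
  RP.tt_cons I (a := ones 24) (fun i hi _ => by rw [ones_testBit]; simpa using hi) tt1 0 [[0]] [0,0,0,0,0,0,0,0,0,0,0,0,0,0,0,0,0,0,0,0,0,0] (mem_top' _) (by decide +kernel)

theorem tt3 : TT (⊤ : Subgroup M24) Set.univ ([1,0,23].map px) :=
  RP.tt_cons I (a := ones 24) (fun i hi _ => by rw [ones_testBit]; simpa using hi) tt2 1 [[4],[0,4,0,4,0],[1,1,5,5,0]] [0,0,0,0,2,0,0,0,0,1] (mem_top' _) (by decide +kernel)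

theorem tt4 : TT (⊤ : Subgroup M24) Set.univ ([2,1,0,23].map px) :=
  RP.tt_cons I (a := ones 24) (fun i hi _ => by rw [ones_testBit]; simpa using hi) tt3 2 [[1,5,1,5,1,5],[1,1,5,5,0,5,5],[4,1,4,4,0,0,4]] [0,1,2,0,1,1,2] (mem_top' _) (by decide +kernel)

theorem tt5 : TT (⊤ : Subgroup M24) Set.univ ([3,2,1,0,23].map px) :=
  RP.tt_cons I (a := ones 24) (fun i hi _ => by rw [ones_testBit]; simpa using hi) tt4 3 [[0,4,0,4,0,4],[1,1,4,1,5,1,1,4,4]] [0,1,1,0,1,0,1,1] (mem_top' _) (by decide +kernel)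

theorem oct0 : S 0x82402f ∈ octads := oct_of (by decide +kernel)

theorem dod0 : S 0x5335f ∈ dodecads := dod_of (by decide +kernel)

theorem oct_tr {o : Finset GolayPt} (ho : o ∈ octads) : ∃ c : M24, c • S 0x82402f = o := by
  obtain ⟨c, _, e⟩ := FC.tr RC (mem_top' W24) (rbW 8) [0,1,2,0,2,0,1,0,2,0,1,0,2,0,1,0] 47 (cpt_at _ 0x82402f (by decide +kernel))
    (by decide +kernel) o ho.1 ho.2
  exact ⟨c, e⟩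

theorem dod_tr {o : Finset GolayPt} (ho : o ∈ dodecads) : ∃ c : M24, c • S 0x5335f = o := by
  obtain ⟨c, _, e⟩ := FC.tr RC (mem_top' W24) (rbW 12) [0,1,0,2,0,1,2,0,2,0,1,2,0,2,0,2,1,0] 863 (cpt_at _ 0x5335f (by decide +kernel))
    (by decide +kernel) o ho.1 ho.2
  exact ⟨c, e⟩

theorem sqD : Spor.squareDodecad = S 0x5335f := qr_eq 0

noncomputable abbrev K23 : Subgroup M24 := stabilizer M24 (px 23)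

def W23 : List (List Nat) := [[0],[4]]

theorem mem23 : ∀ w ∈ W23, wprod gm w ∈ K23 := RP.mem_stab (by decide +kernel)

theorem card23 : Nat.card K23 = 10200960 :=
  RP.card_stab' I.inj gen24 card24 ⟨23, [1,0,0,1,2,0,0,1], 24⟩ 5 rfl (by decide +kernel)

theorem gen23 : genW gm W23 = K23 :=
  RP.gen_of I.inj mem23 card23 [⟨0, [[0]], [0,0,0,0,0,0,0,0,0,0,0,0,0,0,0,0,0,0,0,0,0,0], 23⟩,
  ⟨1, [[2],[0,2,0,2,0],[1,1,3,3,0]], [0,0,0,0,2,0,0,0,0,1], 22⟩,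
  ⟨2, [[1,3,1,3,1,3],[1,1,3,3,0,3,3],[2,1,2,2,0,0,2]], [0,1,2,0,1,1,2], 21⟩,
  ⟨3, [[0,2,0,2,0,2],[1,1,2,1,3,1,1,2,2]], [0,1,1,0,1,0,1,1], 20⟩,
  ⟨4, [[1,1,1,1,3,1,2,0,3,3,0],[1,3,3,1,3,0,0,0,2,0,3,3],[2,0,3,0,0,0,3,0,2,0,3,3]], [0,1,0,1,2], 16⟩,
  ⟨5, [[2,0,2,0,2,1,3,0,3,3,0,0,2,0,2]], [0,0], 3⟩] 5 (by decide +kernel)

noncomputable abbrev K22 : Subgroup M24 := K23 ⊓ stabilizer M24 (px 0)

def W22 : List (List Nat) := [[4],[1,1,5,5,0]]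

theorem mem22 : ∀ w ∈ W22, wprod gm w ∈ K22 := mem_inf' (RP.mem_stab (by decide +kernel)) (RP.mem_stab (by decide +kernel))

theorem card22 : Nat.card K22 = 443520 :=
  RP.card_stab I.inj gen23 card23 ⟨0, [0,0,1,0,1,0,0,1,0], 23⟩ 5 rfl (by decide +kernel)

theorem gen22 : genW gm W22 = K22 :=
  RP.gen_of I.inj mem22 card22 [⟨1, [[0],[2]], [0,1,0,1,0,1,0,0,1], 22⟩,
  ⟨3, [[0,0,3],[0,3,0]], [0,0,1,0,1,0,1,0], 21⟩,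
  ⟨2, [[0,0,3,0,3,0],[0,2,1,2,0,0]], [0,1,0,1,0,1,0], 20⟩,
  ⟨4, [[1,1,2,1,3,3,0,2,0,2],[2,0,2,1,3,0,0,2,1,2],[0,0,2,0,0,2,0,3,0,2,2]], [0,1,2,0,1], 16⟩,
  ⟨5, [[1,1,2,2,0,3,1,3,1,1,2]], [0,0], 3⟩] 5 (by decide +kernel)

noncomputable abbrev K21 : Subgroup M24 := K22 ⊓ stabilizer M24 (px 1)

def W21 : List (List Nat) := [[0,4,0,4,0,4],[1,1,5,5,0,5,5]]

theorem mem21 : ∀ w ∈ W21, wprod gm w ∈ K21 := mem_inf' (mem_inf' (RP.mem_stab (by decide +kernel)) (RP.mem_stab (by decide +kernel))) (RP.mem_stab (by decide +kernel))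

theorem card21 : Nat.card K21 = 20160 :=
  RP.card_stab I.inj gen22 card22 ⟨1, [0,0,0,0,1,0,0,0,0,1], 22⟩ 5 rfl (by decide +kernel)

theorem gen21 : genW gm W21 = K21 :=
  RP.gen_of I.inj mem21 card21 [⟨3, [[0],[2]], [0,1,1,0,1,1,0,1,1], 21⟩,
  ⟨2, [[2,0,2],[0,2,0,3,0]], [0,1,0,0,0,0,1,0], 20⟩,
  ⟨4, [[2,2,0,3,0,2,0,3,3],[0,3,3,0,2,0,3,3,0,3,3],[2,0,3,0,3,0,2,0,2,0,3],[3,0,3,0,2,0,3,0,2,0,2]], [0,1,2,3], 16⟩,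
  ⟨5, [[0,2,2,0,2,0,3,0,3,3]], [0,0], 3⟩] 5 (by decide +kernel)

noncomputable abbrev K20 : Subgroup M24 := K21 ⊓ stabilizer M24 (px 2)

def W20 : List (List Nat) := [[0,4,0,4,0,4],[1,1,4,1,5,1,1,4,4],[1,4,0,5,5,1,1,1,5]]

theorem mem20 : ∀ w ∈ W20, wprod gm w ∈ K20 := mem_inf' (mem_inf' (mem_inf' (RP.mem_stab (by decide +kernel)) (RP.mem_stab (by decide +kernel))) (RP.mem_stab (by decide +kernel))) (RP.mem_stab (by decide +kernel))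

theorem card20 : Nat.card K20 = 960 :=
  RP.card_stab I.inj gen21 card21 ⟨2, [1,0,1,0,1,0,1,0,1,1], 21⟩ 5 rfl (by decide +kernel)

theorem gen20 : genW gm W20 = K20 :=
  RP.gen_of I.inj mem20 card20 [⟨3, [[0],[2]], [0,1,1,0,1,0,1,1], 20⟩,
  ⟨4, [[2,0,3],[2,2,5],[2,4,2]], [0,2,1,0,1], 16⟩,
  ⟨5, [[2,4,0,2]], [0,0], 3⟩] 5 (by decide +kernel)

noncomputable abbrev K12 : Subgroup M24 := stabilizer M24 (S 0x5335f)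

def W12 : List (List Nat) := [[4],[1,1,1,2,1,5,0]]

theorem mem12 : ∀ w ∈ W12, wprod gm w ∈ K12 := I.mem_stab RP (by decide +kernel)

theorem card12 : Nat.card K12 = 95040 :=
  RC.card_stab' FC.inj gen24 card24 ⟨863, [0,1,0,2,0,1,2,0,2,0,1,2,0,2,0,2,1,0], 2576⟩ 12 (cpt_at 863 0x5335f (by decide +kernel)) (by decide +kernel)

theorem gen12 : genW gm W12 = K12 :=
  RP.gen_of I.inj mem12 card12 [⟨1, [[0],[2]], [0,1,1,0,0,0], 12⟩,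
  ⟨0, [[2,0,3],[0,0,2,1]], [0,1,0,0,1], 11⟩,
  ⟨2, [[1,3,1,3,3],[1,3,3,1,2]], [0,1,0,0,0,0], 10⟩,
  ⟨4, [[0,0,2,2,0,0,2,2],[0,3,0,2,0,2,2,1]], [0,1,0,1], 9⟩,
  ⟨3, [[2,2,2,2,2,0,3,1,2,2],[0,3,3,1,2,2,0,0,2,2,0,3]], [0,1,0,0], 8⟩] 5 (by decide +kernel)

noncomputable abbrev K11 : Subgroup M24 := K12 ⊓ stabilizer M24 (px 0)

def W11 : List (List Nat) := [[4],[2,0,4,0,5,1,1,4,1,2]]

theorem mem11 : ∀ w ∈ W11, wprod gm w ∈ K11 := mem_inf' (I.mem_stab RP (by decide +kernel)) (RP.mem_stab (by decide +kernel))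

theorem card11 : Nat.card K11 = 7920 :=
  RP.card_stab I.inj gen12 card12 ⟨0, [1,0,0,0,0,1,0,1], 12⟩ 5 rfl (by decide +kernel)

theorem gen11 : genW gm W11 = K11 :=
  RP.gen_of I.inj mem11 card11 [⟨1, [[0],[2]], [0,0,1,0,0,1], 11⟩,
  ⟨2, [[0,3],[0,0,2,2]], [0,1,0,0,0,0,0,0], 10⟩,
  ⟨3, [[0,2,0,2],[0,3,0,3],[1,3,1,1,2]], [0,1,0,0,2], 9⟩,
  ⟨4, [[0,3,1,3,0,2,1,2],[0,0,2,2,1,1,3,0,2]], [0,1,0,0], 8⟩] 5 (by decide +kernel)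

noncomputable abbrev K10 : Subgroup M24 := K11 ⊓ stabilizer M24 (px 1)

def W10 : List (List Nat) := [[2,0,0,4,4,1,4,0,0,0,2],[2,0,4,0,5,1,1,4,1,2,5]]

theorem mem10 : ∀ w ∈ W10, wprod gm w ∈ K10 := mem_inf' (mem_inf' (I.mem_stab RP (by decide +kernel)) (RP.mem_stab (by decide +kernel))) (RP.mem_stab (by decide +kernel))

theorem card10 : Nat.card K10 = 720 :=
  RP.card_stab I.inj gen11 card11 ⟨1, [0,0,0,0,1,0,0,0], 11⟩ 5 rfl (by decide +kernel)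

theorem gen10 : genW gm W10 = K10 :=
  RP.gen_of I.inj mem10 card10 [⟨3, [[0],[2]], [0,0,1,0,1], 10⟩,
  ⟨4, [[0,3],[1,2,2,0]], [0,0,0,1,0,1], 9⟩,
  ⟨2, [[0,0,3,0,0,2],[0,2,0,2,2,2,1]], [0,1,0,0], 8⟩] 5 (by decide +kernel)

noncomputable abbrev K9 : Subgroup M24 := K10 ⊓ stabilizer M24 (px 2)

def W9 : List (List Nat) := [[2,0,0,4,4,1,4,0,0,0,2],[0,4,0,5,0,5,0,5,1,4,1,2,0,0]]

theorem mem9 : ∀ w ∈ W9, wprod gm w ∈ K9 := mem_inf' (mem_inf' (mem_inf' (I.mem_stab RP (by decide +kernel)) (RP.mem_stab (by decide +kernel))) (RP.mem_stab (by decide +kernel))) (RP.mem_stab (by decide +kernel))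

theorem card9 : Nat.card K9 = 72 :=
  RP.card_stab I.inj gen10 card10 ⟨2, [1,0,0,0,1,0,1], 10⟩ 5 rfl (by decide +kernel)

theorem gen9 : genW gm W9 = K9 :=
  RP.gen_of I.inj mem9 card9 [⟨3, [[0],[2]], [0,0,1,0,1], 9⟩,
  ⟨4, [[0,2,1],[2,1,2]], [0,1,0,0], 8⟩] 5 (by decide +kernel)

noncomputable abbrev KO : Subgroup M24 := stabilizer M24 (S 0x82402f)

def WO : List (List Nat) := [[0,0,2,1,1],[1,1,5,1,5]]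

theorem memO : ∀ w ∈ WO, wprod gm w ∈ KO := I.mem_stab RP (by decide +kernel)

theorem cardO : Nat.card KO = 322560 :=
  RC.card_stab' FC.inj gen24 card24 ⟨47, [0,1,2,0,2,0,1,0,2,0,1,0,2,0,1,0], 759⟩ 12 (cpt_at 47 0x82402f (by decide +kernel)) (by decide +kernel)

theorem genO : genW gm WO = KO :=
  RP.gen_of I.inj memO cardO [⟨0, [[0],[2]], [0,1,1,0,1,0], 8⟩,
  ⟨1, [[0,2,2],[2,0,2]], [0,0,0,0,1,1], 7⟩,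
  ⟨2, [[3,0,3,0,2,2],[0,2,0,3,3,3,0]], [0,1,0], 6⟩,
  ⟨3, [[2,2,0,3,3,3,0,2],[0,3,0,2,0,2,0,2,2,0]], [0,1,0], 5⟩,
  ⟨4, [[0,2,0,3,0,2,0,3,0,2,0,3],[0,3,0,2,0,3,0,2,0,3,0,2],[2,0,2,0,3,0,2,0,3,0,2,0,3,3],[3,3,0,2,0,2,0,2,0,2,0,2,2,2]], [0,1,2,3,1], 16⟩,
  ⟨5, [[0,2,0,2,0,3,3,3,0,3,3,0,3,0,2,0,2,2],[0,3,0,2,2,0,3,3,0,2,2,2,0,3,0,3,0,3]], [0,1], 4⟩,
  ⟨6, [[0,3,0,3,0,3,0,3,3,0,2,0,3,0,2,0,2,0,2,2]], [0,0], 3⟩] 5 (by decide +kernel)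

noncomputable abbrev K12O : Subgroup M24 := K12 ⊓ stabilizer M24 (S 0xc75001)

def W12O : List (List Nat) := [[1,5,5,1,5,0,0,0,4,0,5],[0,4,4,1,2,0,0,4,0,2,4,4]]

theorem mem12O : ∀ w ∈ W12O, wprod gm w ∈ K12O := mem_inf' (I.mem_stab RP (by decide +kernel)) (I.mem_stab RP (by decide +kernel))

theorem card12O : Nat.card K12O = 192 :=
  RC.card_stab FC.inj gen12 card12 ⟨1, [0,0,0,0,1,0,0,0,0,1,0,0,0,0,1,0,0,0,0,1,0,0,0,0,1,0,0], 495⟩ 12 (cpt_at 1 0xc75001 (by decide +kernel)) (by decide +kernel)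

theorem gen12O : genW gm W12O = K12O :=
  RP.gen_of I.inj mem12O card12O [⟨1, [[0],[2]], [0,1,0,1], 8⟩,
  ⟨0, [[1,3,3],[3,0,2]], [0,0,1], 4⟩,
  ⟨2, [[0,2,0,2,1],[0,2,2,1,2]], [0,1,0], 6⟩] 5 (by decide +kernel)

theorem maxO : MaxIn (⊤ ⊓ KO) ⊤ :=
  RC.maxIn' FC.inj gen24 ⟨47, [0,1,2,0,2,0,1,0,2,0,1,0,2,0,1,0], 759⟩ 12 (cpt_at 47 0x82402f (by decide +kernel)) (mem_inf' (mem_top' _) memO) [⟨94, [0], [0,1,0,1,0,1,0,1,1,0,1,0,1,1,0,1,0], [0,0,0,0,0,0,0,1,0,0,0,0,0,0,2,0,0,0,0,0,0,1,0,0,0,0,0,0]⟩,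
  ⟨2577, [2], [0,1,0,1,0,1,0,1,0,1,0,1,1,0,1,0,1,0,1,0], [0,1,0,2,0,1,0,2,0,1,0,2,0,1,0,2,0,1,0]⟩,
  ⟨2960, [1,1,2,0,0], [1,0,1,1,0,1,1,1,0,1,1], [0,2,0,2,1,0,2,1,2,0,2,1,2,0,2,1,2,0]⟩] (by decide +kernel)

theorem simple24t : IsSimpleGroup (⊤ : Subgroup M24) :=
  RP.simple I.inj base7 maxO (fun x _ h => I.fx_all (I.rnd (fx_zero x) (fix_list (RC.ob_rb' FC.inj gen24 ⟨47, [0,1,2,0,2,0,1,0,2,0,1,0,2,0,1,0], 759⟩ 12 (cpt_at 47 0x82402f (by decide +kernel)) (by decide +kernel))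
      (core_orb h) (L := [0x82402f, 0x84805e, 0xc12017, 0xc040d9, 0x32b202, 0xc48a11, 0x891423, 0xe24508]) (by decide +kernel))) (by decide +kernel))
    (mem_top' W24) (card_top_inf cardO) card24t [0] 23 [[],[5,2]] [⟨0, [[0],[2]], [0,0,1,0,1,0,1,0,1,0], 24⟩,
  ⟨1, [[2]], [0,0,0,0,0,0,0,0,0,0,0,0,0,0,0,0,0,0,0,0,0,0], 23⟩,
  ⟨2, [[2,1,1,2,1,2],[0,0,0,2,2,0,3]], [0,1,0,1,1,0,1,0,0,0], 22⟩,
  ⟨3, [[2,0,2,0,2,0,3,1,3],[0,3,0,0,3,1,3,0,0,0]], [0,1,0,1,0,0,1], 21⟩,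
  ⟨4, [[0,2,0,2,0,2,0,3,1,3,1],[1,2,1,3,1,2,1,2,0,2,1,2]], [0,1,0,0,1,0,1], 20⟩,
  ⟨5, [[0,0,0,0,2,2,0,0,3,0,0,3,3,3,1],[2,0,0,2,2,0,0,3,0,0,3,3,3,0,3],[0,3,0,3,3,1,3,1,1,2,2,2,1,2,2,2],[1,2,0,0,0,0,3,3,3,1,3,0,0,2,2,0]], [0,1,2,3,2], 16⟩,
  ⟨6, [[0,3,0,3,3,1,3,1,1,2,2,2,1,2,2,2,1,3,3,1,1,2,0,2,2,2,1,1,1,1,3,0,2,0,0,2,2,0,0,3,0,0,3,3,3,0,3]], [0,0], 3⟩] 5 (by decide +kernel)

theorem simple24 : IsSimpleGroup M24 := simple_of_top simple24t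

theorem max22 : MaxIn (K22) K23 :=
  RP.maxIn' I.inj gen23 ⟨0, [0,0,1,0,1,0,0,1,0], 23⟩ 5 rfl mem22 [⟨1, [0], [0,0,0,0,1,0,0,0,0,1], [0,0,1,0,1,0,0,1,0]⟩] (by decide +kernel)

theorem simple23 : IsSimpleGroup K23 :=
  RP.simple I.inj base7 max22 (fun x _ h => fx_one (fun i hi hb => core_orb h _ (((RP.ob_rb' I.inj gen23 ⟨0, [0,0,1,0,1,0,0,1,0], 23⟩ 5 rfl (by decide +kernel)) i hi).1 hb)) [[]] (by decide +kernel))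
    mem23 card22 card23 [1] 23 [[],[2]] [⟨0, [[0]], [0,0,0,0,0,0,0,0,0,0,0,0,0,0,0,0,0,0,0,0,0,0], 23⟩,
  ⟨1, [[0,3,0,0],[0,0,2,0,0]], [0,1,0,1,0,1,0], 22⟩,
  ⟨2, [[0,3,1,2,2],[2,1,2,1,2]], [0,1,1,0,1,1,0,0], 21⟩,
  ⟨3, [[0,0,0,0,0,2,0,0,3],[2,0,0,3,1,2,2,1,2]], [0,1,0,1,0,1], 20⟩,
  ⟨4, [[1,3,0,0,0,3,0,3,1,2],[0,3,3,3,3,3,0,3,1,3,3],[0,0,0,3,3,3,0,2,2,2,0,0,2],[0,0,2,1,1,2,2,1,3,0,0,2,1]], [0,1,2,3], 16⟩,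
  ⟨5, [[1,2,1,2,0,0,3,1,1,1,3,0,0,0,2]], [0,0], 3⟩] 5 (by decide +kernel)

theorem max21 : MaxIn (K21) K22 :=
  RP.maxIn' I.inj gen22 ⟨1, [0,0,0,0,1,0,0,0,0,1], 22⟩ 5 rfl mem21 [⟨18, [0], [0,1,1,0,1,0,1,0,1,1,1], [0,0,0,0,2,0,0,0,0,1]⟩] (by decide +kernel)

theorem simple22 : IsSimpleGroup K22 :=
  RP.simple I.inj base7 max21 (fun x _ h => fx_one (fun i hi hb => core_orb h _ (((RP.ob_rb' I.inj gen22 ⟨1, [0,0,0,0,1,0,0,0,0,1], 22⟩ 5 rfl (by decide +kernel)) i hi).1 hb)) [[0xd4b004]] (by decide +kernel))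
    mem22 card21 card22 [3,1] 11 [[],[1]] [⟨1, [[0],[2]], [0,1,0,1,0,0,1], 22⟩,
  ⟨2, [[1,2,2,2],[0,0,0,3,1]], [0,0,1,0,1,0,0,0], 21⟩,
  ⟨3, [[2,2,1,3,0,2],[0,2,1,2,2,2,1]], [0,1,0,1,0,0,0], 20⟩,
  ⟨4, [[1,1,2,0,3,1,3,0],[0,3,0,3,3,3,3,1,3],[0,3,3,0,0,0,0,2,0]], [0,1,2,0,1,0], 16⟩,
  ⟨5, [[0,2,1,3,3,1,2,2,2,2,1,3]], [0,0], 3⟩] 5 (by decide +kernel)

theorem max12O : MaxIn (K12O) K12 :=
  RC.maxIn' FC.inj gen12 ⟨1, [0,0,0,0,1,0,0,0,0,1,0,0,0,0,1,0,0,0,0,1,0,0,0,0,1,0,0], 495⟩ 12 (cpt_at 1 0xc75001 (by decide +kernel)) mem12O [⟨2565, [0,0], [0,1,0,1,0,1,0,1,1,0,1,1], [0,0,0,0,2,0,0,0,0,1,0,0,0,0,2,0,0,0,0,1,0,0,2,0,0,1,2,0]⟩,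
  ⟨576, [2,0], [0,1,0,1,0,1,0], [0,0,1,0,2,0,1,0,2,0,1,0,2,0,0,0]⟩,
  ⟨376, [2,0,0], [0,1,0,1,1,0,1,1,0,0], [0,0,1,0,1,0,2,0,1,0,2,0,1,0,2,0,0,1]⟩,
  ⟨2052, [3,0], [0,1,0,1,0,1,0,0,1,0], [0,0,1,2,0,1,0,2,0,1,0,2,0,1,0,0,0]⟩,
  ⟨2450, [3], [0,1,0,1,0,1,0,1,0,1,0,1], [0,0,1,0,2,0,1,0,2,0,1,0,0,1,0,0]⟩,
  ⟨81, [2], [0,1,0,1,0,1,0,1,0,1,1,0], [0,0,1,0,2,0,1,0,2,0,1,0,2,0,0]⟩,
  ⟨2321, [0], [0,1,0,1,0,1,0,1], [0,0,0,0,2,0,0,0,0,1,0,0,0,0,2,0,0,0,0,1,0,0,0,2,0,0,1,2,0]⟩,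
  ⟨104, [2,1], [0,1,0,1,0,1,1,0,1], [0,0,1,0,2,0,1,0,2,0,1,0,2,0,0]⟩,
  ⟨1306, [0,2,1], [0,1,0], [0,0,1,0,2,0,1,0,2,0,1,0,2,0,0,0]⟩,
  ⟨3408, [0,3,0], [0,1,0,1,1,0,1], [0,0,1,2,0,1,0,1,0,2,0,1,0,2,0,0]⟩] (by decide +kernel)

theorem simple12 : IsSimpleGroup K12 :=
  RP.simple I.inj base7 max12O (fun x _ h => I.fx_all (I.rnd (fx_zero x) (fix_list (RC.ob_rb' FC.inj gen12 ⟨1, [0,0,0,0,1,0,0,0,0,1,0,0,0,0,1,0,0,0,0,1,0,0,0,0,1,0,0], 495⟩ 12 (cpt_at 1 0xc75001 (by decide +kernel)) (by decide +kernel))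
      (core_orb h) (L := [0xc75001, 0x826911, 0xc84303, 0x8b0a05, 0x9c20c8, 0xb0a051, 0x8494c1]) (by decide +kernel))) (by decide +kernel))
    mem12 card12O card12 [1,2,2,2] 11 [[],[1]] [⟨0, [[0],[2]], [0,0,1,0,1,0], 12⟩,
  ⟨1, [[0,3],[3,0,2]], [0,1,0,1,0], 11⟩,
  ⟨2, [[0,0,2,2,0,3],[0,3,1,2,1,3]], [0,0,1,0,1,0], 10⟩,
  ⟨3, [[0,0,2,1,3,1,3],[0,3,3,1,2,0,3]], [0,1,0,1,0], 9⟩,
  ⟨4, [[0,0,0,2,0,2,1,3,0,2],[1,1,1,1,3,0,2,1,2,0,0]], [0,1,0,0], 8⟩] 5 (by decide +kernel)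

theorem max10 : MaxIn (K10) K11 :=
  RP.maxIn' I.inj gen11 ⟨1, [0,0,0,0,1,0,0,0], 11⟩ 5 rfl mem10 [⟨18, [0], [0,1,0,0,0,1], [0,0,0,0,2,0,0,0]⟩] (by decide +kernel)

theorem simple11 : IsSimpleGroup K11 :=
  RP.simple I.inj base7 max10 (fun x _ h => fx_one (fun i hi hb => core_orb h _ (((RP.ob_rb' I.inj gen11 ⟨1, [0,0,0,0,1,0,0,0], 11⟩ 5 rfl (by decide +kernel)) i hi).1 hb)) [[0x34200f, 0x159013, 0xc12017, 0x45102e, 0x67016, 0xc504b, 0xd3085, 0xd241a]] (by decide +kernel))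
    mem11 card10 card11 [2,2,1] 11 [[],[0]] [⟨1, [[0]], [0,0,0,0,0,0,0,0,0,0], 11⟩,
  ⟨2, [[0,2],[0,3,1,3]], [0,1,0,0,0,0], 10⟩,
  ⟨3, [[0,2,0,2],[1,3,3,3]], [0,0,1,1,1], 9⟩,
  ⟨4, [[0,2,2,2,0,3,0],[1,3,1,1,1,2,0,2]], [0,1,0,0], 8⟩] 5 (by decide +kernel)

end CfsgH7.Gol
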