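import Cfsg.Agent.H7.Gol.Data2

/-! Duads, triads, sextets, trios and dodecad pairs as numbered families. -/

set_option autoImplicit false
set_option maxRecDepth 100000

namespace CfsgH7.Gol

open Cfsg MulAction
open scoped Pointwise

theorem Fam.of_orbit {G Ω : Type*} [Group G] [MulAction G Ω] {pt : Nat → Ω} {n : Nat} {g : Nat → G}
    {l : List Net} (R : Rep pt n g l) (hinj : ∀ i < n, ∀ j < n, pt i = pt j → i = j) {K : Subgroup G}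
    {W : List (List Nat)} (hK : genW g W = K) (s : List Nat) (a : Nat)
    (h : band (Nat.blt a n) (subs (ones n) (bfsS l W s (sing a))) = true) {A : Set Ω}
    (hA : ∀ y, y ∈ A ↔ ∃ c ∈ K, c • pt a = y) : Fam A pt n := by
  obtain ⟨h1, h2⟩ := band_iff.1 h
  rw [bfsS_eq] at h2
  refine ⟨hinj, fun i hi => (hA _).2 (R.covers_spec (fun w hw => hK ▸ mem_genW g hw) h2 i hi), fun y hy => ?_⟩
  obtain ⟨c, hc, rfl⟩ := (hA y).1 hy
  obtain ⟨j, hj, e⟩ := R.smul_pt (hK ▸ hc : c ∈ genW g W) a (by simpa [Nat.blt_eq] using h1)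
  exact ⟨j, hj, e.symm⟩

theorem fam_sets (P : List Nat) (n k : Nat) (hP : P.length = 24) (hn : Nat.choose 24 k = n)
    (h : band (subs (ones (n - 1)) (ltP ((List.range 24).map (nth P)))) (subs (ones n) (cntB P n (ones 24) k)) = true) :
    Fam {s : Finset GolayPt | s.card = k} (fpt ix P) n := by
  obtain ⟨h1, h2⟩ := band_iff.1 h
  refine Fam.of_card (I.fpt_inj hP.le _ (by decide) h1) (fun i hi => (I.rb_card hP n k i hi).1
    (subs_spec h2 (by rw [ones_testBit]; simpa using hi))) (Set.toFinite _) ?_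
  have : {s : Finset GolayPt | s.card = k} = (Finset.powersetCard k Finset.univ : Finset (Finset GolayPt)) := by
    ext s; simp
  rw [this, Set.ncard_coe_finset, Finset.card_powersetCard, Finset.card_univ, cardP, hn]

theorem msext (c : M24) {X : Finset (Finset GolayPt)} : c • X ∈ sextets ↔ X ∈ sextets := by
  have key : ∀ (c : M24) (X : Finset (Finset GolayPt)), X ∈ sextets → c • X ∈ sextets := by
    rintro c X ⟨h1, h2, h3⟩
    refine ⟨by rw [Finset.card_smul_finset, h1], fun t ht => ?_, fun t ht u hu h => ?_⟩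
    · obtain ⟨t, ht', rfl⟩ := Finset.mem_smul_finset.1 ht
      rw [Finset.card_smul_finset, h2 t ht']
    · obtain ⟨t, ht', rfl⟩ := Finset.mem_smul_finset.1 ht
      obtain ⟨u, hu', rfl⟩ := Finset.mem_smul_finset.1 hu
      rw [← Finset.smul_finset_union, moct]
      exact h3 t ht' u hu' fun e => h (by rw [e])
  exact ⟨fun h => by simpa using key c⁻¹ _ h, key c X⟩

theorem disj_smul (c : M24) {s t : Finset GolayPt} : Disjoint (c • s) (c • t) ↔ Disjoint s t := by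
  rw [Finset.disjoint_iff_inter_eq_empty, Finset.disjoint_iff_inter_eq_empty, ← Finset.smul_finset_inter,
    Finset.smul_finset_eq_empty]

theorem mtrio (c : M24) {X : Finset (Finset GolayPt)} : c • X ∈ trios ↔ X ∈ trios := by
  have key : ∀ (c : M24) (X : Finset (Finset GolayPt)), X ∈ trios → c • X ∈ trios := by
    rintro c X ⟨h1, h2, h3⟩
    refine ⟨by rw [Finset.card_smul_finset, h1], fun t ht => ?_, fun t ht u hu h => ?_⟩
    · obtain ⟨t, ht', rfl⟩ := Finset.mem_smul_finset.1 ht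
      exact (moct c).2 (h2 t ht')
    · obtain ⟨t, ht', rfl⟩ := Finset.mem_smul_finset.1 ht
      obtain ⟨u, hu', rfl⟩ := Finset.mem_smul_finset.1 hu
      rw [disj_smul]
      exact h3 t ht' u hu' fun e => h (by rw [e])
  exact ⟨fun h => by simpa using key c⁻¹ _ h, key c X⟩

theorem sub_smul (c : M24) {s t : Finset GolayPt} : c • s ⊆ c • t ↔ s ⊆ t :=
  Finset.smul_finset_subset_smul_finset_iff

theorem inter_card_iff {s t : Finset GolayPt} : (s ∩ t).card = s.card ↔ s ⊆ t := by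
  rw [← Finset.inter_eq_left]
  exact ⟨fun h => Finset.eq_of_subset_of_card_le Finset.inter_subset_left h.ge, fun h => by rw [h]⟩

theorem rbS (a : Nat) : Rb cpt 4096 (cntB CP 4096 a (cnt 5 24 a)) (fun s => S a ⊆ s) :=
  (rbI a _).congr fun s => by rw [← card_S, inter_card_iff]

theorem oct_tetrad {t : Finset GolayPt} (ht : t.card = 4) : {o | o ∈ octads ∧ t ⊆ o}.ncard = 5 := by
  obtain ⟨c, rfl⟩ := sets4 ht
  exact FC.ncard_tr ((rbW 8).and (rbS 0x800007)) c (fun y => by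
    rw [Set.mem_setOf_eq, moct, sub_smul, mem_oct, and_assoc]) 12 (by decide +kernel)

theorem sext_disj {X : Finset (Finset GolayPt)} (hX : X ∈ sextets) {t u : Finset GolayPt} (ht : t ∈ X)
    (hu : u ∈ X) (h : t ≠ u) : Disjoint t u := by
  have h1 := Finset.card_union_add_card_inter t u
  rw [(hX.2.2 t ht u hu h).2, hX.2.1 t ht, hX.2.1 u hu] at h1
  exact Finset.disjoint_iff_inter_eq_empty.2 (Finset.card_eq_zero.1 (by omega))

theorem sext_char {X : Finset (Finset GolayPt)} (hX : X ∈ sextets) {t : Finset GolayPt} (ht : t ∈ X) :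
    (X.erase t : Set (Finset GolayPt)) = (fun o => o \ t) '' {o | o ∈ octads ∧ t ⊆ o} := by
  refine Set.eq_of_subset_of_ncard_le (fun u hu => ?_) ?_ (Set.toFinite _)
  · obtain ⟨h1, h2⟩ := Finset.mem_erase.1 hu
    exact ⟨t ∪ u, ⟨hX.2.2 t ht u h2 h1.symm, Finset.subset_union_left⟩,
      Finset.union_sdiff_cancel_left (sext_disj hX ht h2 h1.symm)⟩
  · rw [Set.ncard_coe_finset, Finset.card_erase_of_mem ht, hX.1]
    exact (Set.ncard_image_le (Set.toFinite _)).trans (oct_tetrad (hX.2.1 t ht)).le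

theorem sext_unique {X Y : Finset (Finset GolayPt)} (hX : X ∈ sextets) (hY : Y ∈ sextets)
    {t : Finset GolayPt} (h1 : t ∈ X) (h2 : t ∈ Y) : X = Y := by
  rw [← Finset.insert_erase h1, ← Finset.insert_erase h2,
    Finset.coe_injective ((sext_char hX h1).trans (sext_char hY h2).symm)]

theorem sext_of (ms : List (Nat × Nat)) (h1 : (ms.map fun x => S x.1).toFinset.card = 6)
    (h : lall (fun x => band (Nat.beq (cnt 5 24 x.1) 4)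
      (lall (fun y => Nat.beq x.1 y.1 || isOct (Nat.lor x.1 y.1)) ms)) ms = true) :
    (ms.map fun x => S x.1).toFinset ∈ sextets := by
  refine ⟨h1, fun t ht => ?_, fun t ht u hu hne => ?_⟩
  · obtain ⟨x, hx, rfl⟩ := List.mem_map.1 (List.mem_toFinset.1 ht)
    rw [card_S, Nat.eq_of_beq_eq_true (band_iff.1 (lall_iff.1 h x hx)).1]
  · obtain ⟨x, hx, rfl⟩ := List.mem_map.1 (List.mem_toFinset.1 ht)
    obtain ⟨y, hy, rfl⟩ := List.mem_map.1 (List.mem_toFinset.1 hu)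
    rcases Bool.or_eq_true_iff.1 (lall_iff.1 (band_iff.1 (lall_iff.1 h x hx)).2 y hy) with e | e
    · exact absurd (by rw [Nat.eq_of_beq_eq_true e]) hne
    · rw [msk_union]; exact oct_of e

theorem oct_compl {o o' : Finset GolayPt} (ho : o ∈ octads) (ho' : o' ∈ octads) (h : Disjoint o o') :
    (o ∪ o')ᶜ ∈ octads := by
  refine ⟨U_compl ?_, by rw [Finset.card_compl, Finset.card_union_of_disjoint h, ho.2, ho'.2]; rfl⟩
  have := U_xor ho.1 ho'.1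
  rwa [h.symmDiff_eq_sup] at this

theorem trio_eq {T : Finset (Finset GolayPt)} (hT : T ∈ trios) {a b : Finset GolayPt} (ha : a ∈ T) (hb : b ∈ T)
    (h : a ≠ b) : T = {a, b, (a ∪ b)ᶜ} := by
  refine Finset.eq_of_subset_of_card_le (fun u hu => ?_) (hT.1 ▸ Finset.card_le_three)
  by_cases h1 : u = a
  · simp [h1]
  by_cases h2 : u = b
  · simp [h2]
  have : u = (a ∪ b)ᶜ := Finset.eq_of_subset_of_card_le (fun p hp => by
      have a1 := Finset.disjoint_left.1 (hT.2.2 u hu a ha h1) hp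
      have a2 := Finset.disjoint_left.1 (hT.2.2 u hu b hb h2) hp
      simp [a1, a2])
    (by rw [(oct_compl (hT.2.1 a ha) (hT.2.1 b hb) (hT.2.2 a ha b hb h)).2, (hT.2.1 u hu).2])
  simp [this]

theorem trio_of {a b : Finset GolayPt} (ha : a ∈ octads) (hb : b ∈ octads) (h : Disjoint a b) :
    ({a, b, (a ∪ b)ᶜ} : Finset (Finset GolayPt)) ∈ trios := by
  have hc := oct_compl ha hb h
  have d1 : Disjoint a (a ∪ b)ᶜ := disjoint_compl_right.mono_left Finset.subset_union_left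
  have d2 : Disjoint b (a ∪ b)ᶜ := disjoint_compl_right.mono_left Finset.subset_union_right
  have ne : ∀ {x y : Finset GolayPt}, x ∈ octads → Disjoint x y → x ≠ y := by
    rintro x _ hx h rfl
    have := hx.2
    rw [disjoint_self.1 h] at this
    simp at this
  refine ⟨Finset.card_eq_three.2 ⟨_, _, _, ne ha h, ne ha d1, ne hb d2, rfl⟩, by simpa [ha, hb] using hc, ?_⟩
  simp only [Finset.mem_insert, Finset.mem_singleton, forall_eq_or_imp, forall_eq]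
  exact ⟨⟨fun h => absurd rfl h, fun _ => h, fun _ => d1⟩, ⟨fun _ => h.symm, fun h => absurd rfl h, fun _ => d2⟩,
    fun _ => d1.symm, fun _ => d2.symm, fun h => absurd rfl h⟩

theorem oct_pair_tr : ∀ k < 9, ∀ y ∈ U, ∀ z ∈ U, (y.card = 8 ∧ (S 0x82402f ∩ y).card = k) →
    (z.card = 8 ∧ (S 0x82402f ∩ z).card = k) → ∃ x ∈ KO, x • y = z :=
  FC.trK RC memO (fun k => (rbW 8).and (rbI 0x82402f k)) 9 [208,0,2,0,1,0,0,0,47] [[0,1,0,1,1,0,1,1,1],[],[0,1,0,1,0,1,0,1,0,1,0,1,0,1,1,0,1,1,0,1],[],[0,1,0,1,0,1,0,1,1,0,1,1,0,1,0,1,1,1,0],[],[],[],[]] (by decide +kernel)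

/-- The family of sets of 2 points. -/
noncomputable abbrev pt2 : Nat → Finset GolayPt := fpt ix P2

theorem F2 : Fam {s : Finset GolayPt | s.card = 2} pt2 276 := fam_sets _ _ _ rfl (by decide +kernel) (by decide +kernel)

theorem R20 : Rep pt2 276 gp l2 :=
  I.rep_fam RP0 (by decide +kernel) (by decide +kernel) rfl (nall_iff.1 (by decide +kernel))

theorem R2 : Rep pt2 276 gm l2 := R20.toSub M24 gp_mem

/-- The family of sets of 3 points. -/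
noncomputable abbrev pt3 : Nat → Finset GolayPt := fpt ix P3

theorem F3 : Fam {s : Finset GolayPt | s.card = 3} pt3 2024 := fam_sets _ _ _ rfl (by decide +kernel) (by decide +kernel)

theorem R30 : Rep pt3 2024 gp l3 :=
  I.rep_fam RP0 (by decide +kernel) (by decide +kernel) rfl (nall_iff.1 (by decide +kernel))

theorem R3 : Rep pt3 2024 gm l3 := R30.toSub M24 gp_mem

/-- A family of partitions. -/
noncomputable abbrev xpt : Nat → Finset (Finset GolayPt) := ppt ix CX 3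

theorem RX0 : Rep xpt 1771 gp lX :=
  I.rep_par RP0 (by decide +kernel) (by decide +kernel) rfl (nall_iff.1 (by decide +kernel))

theorem RX : Rep xpt 1771 gm lX := RX0.toSub M24 gp_mem

theorem injX : ∀ i < 1771, ∀ j < 1771, xpt i = xpt j → i = j :=
  I.ppt_inj LX (by decide +kernel) (by decide +kernel)

/-- A family of partitions. -/
noncomputable abbrev tpt : Nat → Finset (Finset GolayPt) := ppt ix CT 2

theorem RT0 : Rep tpt 3795 gp lT :=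
  I.rep_par RP0 (by decide +kernel) (by decide +kernel) rfl (nall_iff.1 (by decide +kernel))

theorem RT : Rep tpt 3795 gm lT := RT0.toSub M24 gp_mem

theorem injT : ∀ i < 3795, ∀ j < 3795, tpt i = tpt j → i = j :=
  I.ppt_inj LT (by decide +kernel) (by decide +kernel)

/-- A family of partitions. -/
noncomputable abbrev dpt : Nat → Finset (Finset GolayPt) := ppt ix CD 2

theorem RD0 : Rep dpt 1288 gp lD :=
  I.rep_par RP0 (by decide +kernel) (by decide +kernel) rfl (nall_iff.1 (by decide +kernel))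

theorem RD : Rep dpt 1288 gm lD := RD0.toSub M24 gp_mem

theorem injD : ∀ i < 1288, ∀ j < 1288, dpt i = dpt j → i = j :=
  I.ppt_inj LD (by decide +kernel) (by decide +kernel)

theorem X0_eq : xpt 1194 = ([(0x24028, 3), (0x41900, 8), (0x108600, 9), (0x2800c0, 6), (0x412010, 4), (0x800007, 0)].map fun x => S x.1).toFinset := I.ppt_eq (by decide +kernel)

theorem sext0 : xpt 1194 ∈ sextets := X0_eq ▸ sext_of _ (by decide +kernel) (by decide +kernel)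

theorem sext_tr {X : Finset (Finset GolayPt)} (hX : X ∈ sextets) : ∃ c : M24, c • xpt 1194 = X := by
  obtain ⟨t, ht⟩ : X.Nonempty := Finset.card_pos.1 (by rw [hX.1]; norm_num)
  obtain ⟨c, rfl⟩ := sets4 (hX.2.1 t ht)
  exact ⟨c, sext_unique ((msext c).2 sext0) hX (Finset.smul_mem_smul_finset (by rw [X0_eq]; simp)) ht⟩

theorem FX : Fam sextets xpt 1771 := Fam.of_orbit RX injX gen24 [0,2,0,1,2,0,2,0,1,2,0,2,0,2,1,0,2,0] 1194 (by decide +kernel) fun _ =>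
  ⟨fun h => by obtain ⟨c, e⟩ := sext_tr h; exact ⟨c, trivial, e⟩, by rintro ⟨c, _, rfl⟩; exact (msext c).2 sext0⟩

theorem T0_eq : tpt 291 = {S 0x82402f, S 0x149f00, (S 0x82402f ∪ S 0x149f00)ᶜ} :=
  (I.ppt_eq (ms := [(0x149f00, 8), (0x6920d0, 4), (0x82402f, 0)]) (by decide +kernel)).trans (by decide +kernel)

theorem oct1 : S 0x149f00 ∈ octads := oct_of (by decide +kernel)

theorem trio0 : tpt 291 ∈ trios := T0_eq ▸ trio_of oct0 oct1 (by decide +kernel)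

theorem oct_disj_tr {a b : Finset GolayPt} (ha : a ∈ octads) (hb : b ∈ octads) (h : Disjoint a b) :
    ∃ c : M24, c • S 0x82402f = a ∧ c • S 0x149f00 = b := by
  obtain ⟨c, rfl⟩ := oct_tr ha
  obtain ⟨b, rfl⟩ := ex_smul c b
  rw [moct] at hb
  rw [disj_smul] at h
  obtain ⟨k, hk, e⟩ := oct_pair_tr 0 (by norm_num) _ oct1.1 b hb.1 ⟨oct1.2, by decide +kernel⟩
    ⟨hb.2, by rw [Finset.disjoint_iff_inter_eq_empty.1 h]; rfl⟩
  have hk' : k • S 0x82402f = S 0x82402f := hk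
  have e' : k • S 0x149f00 = b := e
  exact ⟨c * k, by rw [mul_smul, hk'], by rw [mul_smul, e']⟩

theorem trio_tr' {T : Finset (Finset GolayPt)} (hT : T ∈ trios) {a : Finset GolayPt} (ha : a ∈ T) :
    ∃ c : M24, c • tpt 291 = T ∧ c • S 0x82402f = a := by
  obtain ⟨b, hb⟩ : (T.erase a).Nonempty := Finset.card_pos.1 (by rw [Finset.card_erase_of_mem ha, hT.1]; norm_num)
  obtain ⟨h1, h2⟩ := Finset.mem_erase.1 hb
  obtain ⟨c, rfl, rfl⟩ := oct_disj_tr (hT.2.1 a ha) (hT.2.1 b h2) (hT.2.2 a ha b h2 h1.symm)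
  refine ⟨c, ?_, rfl⟩
  rw [trio_eq hT ha h2 h1.symm, T0_eq]
  simp only [Finset.smul_finset_insert, Finset.smul_finset_singleton, smul_compl, Finset.smul_finset_union]

theorem trio_tr {T : Finset (Finset GolayPt)} (hT : T ∈ trios) : ∃ c : M24, c • tpt 291 = T := by
  obtain ⟨a, ha⟩ : T.Nonempty := Finset.card_pos.1 (by rw [hT.1]; norm_num)
  obtain ⟨c, h, _⟩ := trio_tr' hT ha
  exact ⟨c, h⟩

theorem FT : Fam trios tpt 3795 := Fam.of_orbit RT injT gen24 [0,1,2,0,2,0,1,2,0,2,0,1,2,0,2,0,1,2,0] 291 (by decide +kernel) fun _ =>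
  ⟨fun h => by obtain ⟨c, e⟩ := trio_tr h; exact ⟨c, trivial, e⟩, by rintro ⟨c, _, rfl⟩; exact (mtrio c).2 trio0⟩

theorem D0_eq : dpt 58 = {S 0x5335f, (S 0x5335f)ᶜ} :=
  (I.ppt_eq (ms := [(0x5335f, 0), (0xfacca0, 5)]) (by decide +kernel)).trans (by decide +kernel)

theorem smul_D0 (c : M24) : c • dpt 58 = {c • S 0x5335f, (c • S 0x5335f)ᶜ} := by
  rw [D0_eq]
  simp only [Finset.smul_finset_insert, Finset.smul_finset_singleton, smul_compl]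

theorem FD : Fam (orbit M24 (dpt 58)) dpt 1288 := Fam.of_orbit RD injD gen24 [0,0,1,2,0,2,0,1,2,0,2,0,2,0,2,0,2,0] 58 (by decide +kernel) fun _ =>
  ⟨fun ⟨c, e⟩ => ⟨c, trivial, e⟩, fun ⟨c, _, e⟩ => ⟨c, e⟩⟩

noncomputable abbrev K2 : Subgroup M24 := stabilizer M24 (S 0x800001)

def W2 : List (List Nat) := [[2],[0,4,0,4,0]]

theorem mem2 : ∀ w ∈ W2, wprod gm w ∈ K2 := I.mem_stab RP (by decide +kernel)

theorem card2 : Nat.card K2 = 887040 :=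
  R2.card_stab' F2.inj gen24 card24 ⟨253, [0,0,1,2,0,2,0,1,0,2,0,1,0,2,0], 276⟩ 9 (I.fpt_eq' (P := P2) (i := 253) (a := 0x800001) (by decide +kernel)) (by decide +kernel)

theorem gen2 : genW gm W2 = K2 :=
  RP.gen_of I.inj mem2 card2 [⟨0, [[0]], [0], 2⟩,
  ⟨1, [[2],[0,2,0]], [0,0,0,0,0,1,0,0,0,0,1], 22⟩,
  ⟨2, [[0,3,0,2],[2,0,2,0,3]], [0,1,0,0,1,0,1,0], 21⟩,
  ⟨3, [[0,2,2,0,3,3,3,0,2,2,0],[0,3,0,3,3,0,2,2,0,3,3],[2,0,2,0,2,2,0,3,3,0,2]], [0,1,0,1,2,0], 20⟩,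
  ⟨4, [[0,2,2,0,2,0,2,2,2,0,3,3,0,3,3,0,2],[2,2,0,3,0,3,0,2,2,0,2,2,2,0,3,0,2],[0,2,0,2,2,2,0,3,3,3,0,3,3,3,0,3,3,0]], [0,1,2,0,1], 16⟩,
  ⟨5, [[0,3,3,0,3,3,3,0,3,0,2,0,3,3,0,2,2]], [0,0], 3⟩] 5 (by decide +kernel)

theorem max2 : MaxIn (⊤ ⊓ K2) ⊤ :=
  R2.maxIn' F2.inj gen24 ⟨253, [0,0,1,2,0,2,0,1,0,2,0,1,0,2,0], 276⟩ 9 (I.fpt_eq' (P := P2) (i := 253) (a := 0x800001) (by decide +kernel)) (mem_inf' (mem_top' _) mem2) [⟨231, [0], [0,1,0,1,0,1,0,1,0,1,0,1,0], [0,0,1,0,0,1,0,0,1,0,0,1,0,0,1,0,1,0,0,0]⟩,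
  ⟨2, [1,2,0], [0,1,0,1,0,1,0,1,0,1,0,1,0,1,0,1,0], [0,1,2,1,0,1,2,1,0,1,2,1,0,1,2,1,0]⟩] (by decide +kernel)

noncomputable abbrev K3 : Subgroup M24 := stabilizer M24 (S 0x800003)

def W3 : List (List Nat) := [[0,2],[1,1,1,5,0,0]]

theorem mem3 : ∀ w ∈ W3, wprod gm w ∈ K3 := I.mem_stab RP (by decide +kernel)

theorem card3 : Nat.card K3 = 120960 :=
  R3.card_stab' F3.inj gen24 card24 ⟨2002, [0,2,0,2,0,1,0,2,0,1,2,0,2,0,1,2,0,2,0], 2024⟩ 11 (I.fpt_eq' (P := P3) (i := 2002) (a := 0x800003) (by decide +kernel)) (by decide +kernel)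

theorem gen3 : genW gm W3 = K3 :=
  RP.gen_of I.inj mem3 card3 [⟨0, [[0]], [0,0], 3⟩,
  ⟨1, [[0,2]], [0], 2⟩,
  ⟨2, [[2,2],[0,2,0,3],[0,2,2,1]], [0,0,2,0,1,0,2], 21⟩,
  ⟨3, [[0,2,0,2],[3,0,2,2,1,2],[0,2,2,0,3,3,0]], [0,1,0,2,0,1], 20⟩,
  ⟨4, [[1,2,1,3,1,2,1,3],[0,2,2,0,3,3,1,2,0,2],[0,3,3,1,2,0,2,0,2,2]], [0,1,2,1,0,1], 16⟩,
  ⟨5, [[2,2,1,2,0,2,0,2,2,0,2,2]], [0,0], 3⟩] 5 (by decide +kernel)

theorem max3 : MaxIn (⊤ ⊓ K3) ⊤ :=
  R3.maxIn' F3.inj gen24 ⟨2002, [0,2,0,2,0,1,0,2,0,1,2,0,2,0,1,2,0,2,0], 2024⟩ 11 (I.fpt_eq' (P := P3) (i := 2002) (a := 0x800003) (by decide +kernel)) (mem_inf' (mem_top' _) mem3) [⟨1520, [0,0], [0,0,1,0,0,1,0,0,1,0,0,1,0,0,1,0,0,1,0,0,1,0], [0,0,1,0,1,0,1,0,1,0,1,0,1,0,1,0,1,0,1,0,1,0]⟩,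
  ⟨288, [1,2,0], [0,0,1,0,0,1,0,0,1,0,0,1,0,0,1,0,0,1,0,0,1,0,0,1], [0,1,1,0,1,1,0,1,2,1,0,1,1,0,1,1,0,1,2,1,0,1,1,0]⟩,
  ⟨599, [4,1,2,0], [0,0,1,0,0,1,0,0,1,0,0,1,0,0,1,0,0], [0,1,1,0,1,1,0,1,1,0,1,1,0,1,1,0,1,1,0,1,1,0,1,1,0]⟩,
  ⟨1750, [0], [0,0,1,0,0,1,0,0,1,0,0,1,0,0], [0,0,0,1,0,0,1,0,0,1,0,0,1,0,0,1,0,0,1,0,0,0,0,1,0]⟩] (by decide +kernel)

noncomputable abbrev KX : Subgroup M24 := stabilizer M24 (xpt 1194)

def WX : List (List Nat) := [[0,2,1],[1,2,5,5,0,0,5],[1,1,5,1,5,1,5,0]]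

theorem memX : ∀ w ∈ WX, wprod gm w ∈ KX := RX.mem_stab (by decide +kernel)

theorem cardX : Nat.card KX = 138240 :=
  RX.card_stab' FX.inj gen24 card24 ⟨1194, [0,2,0,1,2,0,2,0,1,2,0,2,0,2,1,0,2,0], 1771⟩ 11 rfl (by decide +kernel)

theorem genX : genW gm WX = KX :=
  RP.gen_of I.inj memX cardX [⟨0, [[0],[2]], [0,1,0,1,0,1,1,0], 24⟩,
  ⟨1, [[4],[0,3,4,2]], [0,1], 3⟩,
  ⟨3, [[2,4,2,4,2],[2,0,2,4,0,3]], [0,1,0,1,0,1,1], 20⟩,
  ⟨2, [[0,2,2,0,2,2,4]], [0], 2⟩,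
  ⟨4, [[0,4,0,3,0,2,4],[0,2,4,3,3,3,4,0],[2,4,0,4,2,2,0,2]], [0,2,0,1,1], 16⟩,
  ⟨5, [[0,2,4,3,3,3,0,3,0,2,4]], [0,0], 3⟩] 5 (by decide +kernel)

theorem maxX : MaxIn (⊤ ⊓ KX) ⊤ :=
  RX.maxIn' FX.inj gen24 ⟨1194, [0,2,0,1,2,0,2,0,1,2,0,2,0,2,1,0,2,0], 1771⟩ 11 rfl (mem_inf' (mem_top' _) memX) [⟨145, [2], [0,1,0,2,0,1,0,2,0,1,0,1,0,2,0,1,0,1,1,0], [0,1,0,2,0,1,0,2,0,1,0,2,0,1,0,2,0,1,0,1,0,1,2]⟩,
  ⟨1253, [0], [0,1,0,1,0,2,0,1,0,1,0,2,1,0,1], [0,0,0,0,1,0,0,0,0,1,0,0,0,0,0,1,0,0,2,0,0,0,1,0,0,0,0,0,0,0,1]⟩,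
  ⟨157, [5,1], [0,1,2,0,1,0,2,0,1,2], [0,0,1,0,0,1,0,0,1,0,0,1,0,0,1,0,0,1,0,0,1,0,0,1,0,0,1,0]⟩] (by decide +kernel)

noncomputable abbrev KT : Subgroup M24 := stabilizer M24 (tpt 291)

def WT : List (List Nat) := [[4,0,0,0,4,4],[0,0,5,1,1,1,4],[1,2,4,4,0,0,5]]

theorem memT : ∀ w ∈ WT, wprod gm w ∈ KT := RT.mem_stab (by decide +kernel)

theorem cardT : Nat.card KT = 64512 :=
  RT.card_stab' FT.inj gen24 card24 ⟨291, [0,1,2,0,2,0,1,2,0,2,0,1,2,0,2,0,1,2,0], 3795⟩ 12 rfl (by decide +kernel)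

theorem genT : genW gm WT = KT :=
  RP.gen_of I.inj memT cardT [⟨0, [[0],[2],[4]], [0,2,0,1,0,2,2], 24⟩,
  ⟨1, [[2],[0,3,0],[4,0,3,4]], [0,0,1,0,2], 7⟩,
  ⟨2, [[4,0,5,5],[2,4,0,3,4]], [0,1,0], 6⟩,
  ⟨4, [[2,2,2],[0,0,0,0],[0,2,2,2,1],[0,2,0,2,0,2]], [0,1,2,3], 16⟩,
  ⟨3, [[0,3,1,1,3,0],[0,4,1,1,4,1,5]], [0,1], 4⟩] 5 (by decide +kernel)

theorem maxT : MaxIn (⊤ ⊓ KT) ⊤ :=
  RT.maxIn' FT.inj gen24 ⟨291, [0,1,2,0,2,0,1,2,0,2,0,1,2,0,2,0,1,2,0], 3795⟩ 12 rfl (mem_inf' (mem_top' _) memT) [⟨2063, [2], [0,1,2,0,1,0,2,1,0,2,0,1,0,2,0,1,0], [0,1,0,2,0,1,0,3,0,1,0,2,0,1,0,3,0,1,0,1,0,1]⟩,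
  ⟨2393, [0], [0,1,2,0,1,0,2,0,1,0,2,1,0,1,0,0], [0,0,0,0,0,0,0,0,1,0,0,0,0,0,0,0,0,1,0,0,0,0,0,0,0,0,1,0,0,0,0,0,0,0,0,0,0,0,0,0,0,0,0,1,0]⟩,
  ⟨318, [1,4,0], [0,2,0,1,0,2,1,0,1], [0,0,0,1,3,0,0,1,0,0,3,0,0,1,0,0,3,0,0,1,0,0,0,0]⟩,
  ⟨912, [0,2,1], [0,1,2,0,1,0,1,1,0], [0,1,0,2,0,1,0,3,0,1,0,2,0,1,0,3,0,1,0,2,0]⟩] (by decide +kernel)

noncomputable abbrev KD : Subgroup M24 := stabilizer M24 (dpt 58)

def WD : List (List Nat) := [[2],[4],[1,1,1,2,1,5,0]]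

theorem memD : ∀ w ∈ WD, wprod gm w ∈ KD := RD.mem_stab (by decide +kernel)

theorem cardD : Nat.card KD = 190080 :=
  RD.card_stab' FD.inj gen24 card24 ⟨58, [0,0,1,2,0,2,0,1,2,0,2,0,2,0,2,0,2,0], 1288⟩ 11 rfl (by decide +kernel)

theorem genD : genW gm WD = KD :=
  RP.gen_of I.inj memD cardD [⟨0, [[0],[4]], [0,1,0,1,0,1,0,1,1], 24⟩,
  ⟨1, [[2],[4,4,2,4]], [0,0,0,0,1,0,1], 11⟩,
  ⟨2, [[3,5,3,5,5],[3,5,5,3,4]], [0,1,0,0,0,0], 10⟩,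
  ⟨3, [[0,4,0,3,4,4,2],[0,3,5,2,5,5,5,0]], [0,0,1,0,1], 9⟩,
  ⟨4, [[2,4,2,4,4,4,4,3,4],[0,5,3,4,0,4,2,5,3,5]], [0,1,0,0], 8⟩] 5 (by decide +kernel)

theorem maxD : MaxIn (⊤ ⊓ KD) ⊤ :=
  RD.maxIn' FD.inj gen24 ⟨58, [0,0,1,2,0,2,0,1,2,0,2,0,2,0,2,0,2,0], 1288⟩ 11 rfl (mem_inf' (mem_top' _) memD) [⟨321, [0], [0,1,1,1,1,2,0,1,1,1,1,2,0,1,1,1,1,2,1,0,1], [0,0,1,2,0,2,0,1,2,0,2,0,2,0,2,0,2,0]⟩,
  ⟨1111, [0,4,0], [0,1,1,1,1,2,0,1,1,1,1,2,0,1,1,1,1,2,0,1,1,1,1], [0,1,2,2,2,0,2,1,2,2,0,2,1,2,2,2,0,1,2,2,2,0,1]⟩] (by decide +kernel)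

end CfsgH7.Gol
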