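import Cfsg.Agent.H7.Gol.L223
import Cfsg.Agent.H7.Fus

/-! The maximal subgroups L2(23) of M24 and 23:11 of M23. -/

set_option autoImplicit false
set_option maxRecDepth 100000

namespace CfsgH7

open Subgroup

theorem sylN {G : Type*} [Group G] [Finite G] {p : Nat} (hp : p.Prime) {x : G} (hx : orderOf x = p)
    (hC : centralizer {x} = zpowers x) (hn : ¬ p * p ∣ Nat.card G) (K : Subgroup G) (hK : x ∈ K) :
    ∃ r i, r ∣ p - 1 ∧ Nat.card (normalizer (zpowers x : Set G) ⊓ K : Subgroup G) = p * r ∧ Nat.card K = p * r * i ∧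
      i % p = 1 % p := by
  have := Fact.mk hp
  let X : Subgroup K := zpowers ⟨x, hK⟩
  have hX : Nat.card X = p := by rw [Nat.card_zpowers, ← Subgroup.orderOf_coe, hx]
  have mX : ∀ a : K, a ∈ X ↔ a.1 ∈ zpowers x := fun a =>
    ⟨fun ⟨i, e⟩ => ⟨i, congrArg Subtype.val e⟩, fun ⟨i, e⟩ => ⟨i, Subtype.ext e⟩⟩
  have hi : ¬ p ∣ X.index := fun h => hn (by
    refine Dvd.dvd.trans ?_ (card_subgroup_dvd_card K)
    rw [← X.card_mul_index, hX]; exact Nat.mul_dvd_mul_left _ h)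
  have hP : IsPGroup p X := IsPGroup.of_card (n := 1) (by simpa using hX)
  have h1 : centralizer (X : Set K) = X := by
    refine le_antisymm (fun a ha => (mX a).2 (hC ▸ mem_centralizer_singleton_iff.2
      (congrArg Subtype.val (ha _ (mem_zpowers _))).symm)) ?_
    rintro _ ⟨i, rfl⟩ _ ⟨j, rfl⟩
    exact zpow_mul_comm _ _ _
  have : IsCyclic X := isCyclic_of_prime_card hX
  have h2 : Nat.card (MulAut X) = p - 1 := by rw [IsCyclic.card_mulAut, hX, Nat.totient_prime hp]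
  have h3 : Nat.card X.normalizerMonoidHom.ker = p := by
    rw [normalizerMonoidHom_ker, h1, ← hX]
    exact Nat.card_congr (subgroupOfEquivOfLe le_normalizer).toEquiv
  have h4 := X.normalizerMonoidHom.ker.card_mul_index
  rw [h3, index_ker] at h4
  have h6 := card_sylow_modEq_one p K
  rw [(hP.toSylow hi).card_eq_index_normalizer] at h6
  have h7 := (normalizer (X : Set K)).card_mul_index
  have e : (normalizer (zpowers x : Set G) ⊓ K).subgroupOf K = normalizer (X : Set K) := by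
    ext a
    rw [mem_subgroupOf, mem_inf, and_iff_left a.2]
    refine ⟨fun h => mem_normalizer_iff.2 fun b => by rw [mX, mX]; exact mem_normalizer_iff.1 h _, fun h => ?_⟩
    refine mem_normalizer_fintype fun b hb => ?_
    exact (mX _).1 ((mem_normalizer_iff.1 h ⟨b, zpowers_le.2 hK hb⟩).1 ((mX _).2 hb))
  refine ⟨_, _, h2 ▸ card_subgroup_dvd_card _, ?_, by rw [h4]; exact h7.symm, h6⟩
  rw [h4, ← e]
  exact Nat.card_congr (subgroupOfEquivOfLe inf_le_right).toEquiv.symm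

end CfsgH7

namespace CfsgH7.Gol.L2

open Cfsg Subgroup CfsgH7.Gol.Lx MulAction

def y : List Nat := [2,0,0,0,0,0,2,0,0,0,2,0,0,2,1,1,1,1]
def PW : List (List Nat) := [[0], y]
def HW : List (List Nat) := [[0], y, [2]]
theorem cP : Nat.card (genW gm PW) = 253 := MG.pcard (U := PW) F253.pr (by decide +kernel) (MG.ge PW [⟨0, [[0]], [0,0,0,0,0,0,0,0,0,0,0,0,0,0,0,0,0,0,0,0,0,0], 23⟩,
  ⟨1, [[2]], [0,0,0,0,0,0,0,0,0,0], 11⟩] 5 (by decide +kernel))
theorem cH : Nat.card (genW gm HW) = 6072 := MG.pcard (U := HW) L223.pr (by decide +kernel) (MG.ge HW [⟨0, [[0],[4]], [0,1,0,0,1,0,0,1,0,1], 24⟩,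
  ⟨1, [[2],[0,4,0]], [0,0,0,0,1,0,0,0,0,1,0], 23⟩,
  ⟨2, [[1,4,1,3]], [0,0,0,0,0,0,0,0,0,0], 11⟩] 5 (by decide +kernel))
def caC : List Lvl := [⟨18, [[0],[2]], [0,1,0,0,1,0,0,1], 24⟩,
  ⟨17, [[0,2,4]], [0,0,0,0,0,0,0,0,0,0,0,0,0,0,0,0,0,0,0,0,0,0], 23⟩,
  ⟨16, [[0,4,4,1,1,5],[1,4,1,1,1,2]], [0,1,0,0,1,0,1,0,0,1], 22⟩,
  ⟨15, [[0,0,5,0,0,4,1],[1,1,1,4,1,5,5],[2,4,0,4,1,4,0,5]], [0,1,0,1,2,0,0], 21⟩,
  ⟨14, [[0,0,2,5,0,0,4,0,2,4,4,1],[0,0,4,1,5,0,4,0,0,5,0,2]], [0,1,0,1,0,0,0,0], 20⟩,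
  ⟨13, [[1,5,5,1,2,5,1,2,4,1,4,0,2],[1,1,4,4,1,4,0,4,0,0,0,0,4,4],[1,4,4,0,2,1,4,1,2,4,0,4,0,4]], [0,1,0,0,1,2], 16⟩,
  ⟨12, [[1,1,5,5,1,2,5,1,2,4,1,2,4,1,2]], [0,0], 3⟩]
def caM : List (List Nat) := [[],
  [],
  [],
  [],
  [],
  [],
  []]
def caZ : List Nat := [0xffffff]
theorem caL : LvOk M24 px 24 [] (mkLV caC caM) := MG.lvOk caC 5 caM (by decide +kernel) (by decide +kernel)
noncomputable def haT : Bt := (.br 0 [[0]] [0,0,0,0,0,0,0,0,0,0,0,0,0,0,0,0,0,0,0,0,0,0] (Bt.ofL [(18, [], (.step 0 0 [] (.step 0 0 [] (.step 0 0 [] (.step 0 0 [] (.step 0 0 [] (.step 0 0 [] (.leaf 0))))))))]))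
theorem ha : Subgroup.centralizer {z | ∃ w ∈ [[0]], wprod gm w = z} = genW gm [[0]] :=
  MG.cen caL _ [[0],[0,0],[0,0,0],[0,0,0,0],[0,0,0,0,0],[0,0,0,0,0,0],[1]] _ 1 5 caZ haT (by decide +kernel) (by decide +kernel)
def cbC : List Lvl := [⟨7, [[0],[2]], [0,1,0,0,1,0,0,1], 24⟩,
  ⟨15, [[0,0,4],[1,1,1,5],[1,1,2,4]], [0,1,2,0,2,0,1], 23⟩,
  ⟨19, [[0,2,4,1,1,2],[1,4,1,4,4,0]], [0,1,0,0,1,0,1,0,0], 22⟩,
  ⟨21, [[0,4,1,5,1,5,0,4,1],[0,5,0,0,5,0,5,0,0],[1,1,2,4,1,4,4,0,0]], [0,1,2,0,1,1,0], 21⟩,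
  ⟨22, [[2,0,5,1,2,0,5,5,0,4],[0,5,1,1,2,0,5,1,5,1,4],[0,5,1,1,2,5,0,0,5,1,5]], [0,2,0,2,0,0,1,0], 20⟩,
  ⟨11, [[1,1,2,0,0,4,0,4,1,2,0,0],[0,2,1,4,0,2,4,4,0,4,4,1,5],[0,2,1,1,1,2,1,1,5,1,2,0,4,0]], [0,1,0,1,2,0], 16⟩,
  ⟨17, [[0,5,1,5,5,1,2,1,4,0,0,0,0,2,0,0]], [0,0], 3⟩]
def cbM : List (List Nat) := [[],
  [],
  [],
  [],
  [0x20102],
  [],
  []]
def cbZ : List Nat := [0xffffff]
theorem cbL : LvOk M24 px 24 [] (mkLV cbC cbM) := MG.lvOk cbC 5 cbM (by decide +kernel) (by decide +kernel)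
noncomputable def hbT : Bt := (.br 0 [[0]] [0,0,0,0,0,0,0,0,0,0] (Bt.ofL [(7, [], (.step 0 0 [] (.step 0 0 [] (.step 0 0 [] (.step 0 0 [] (.step 0 0 [] (.step 0 0 [] (.leaf 0)))))))),
 (6, [1], (.step 0 0 [4,0,0,0] (.step 0 0 [] (.step 0 0 [5,1,4,4,1,2,0,4,1,2,0,5,1,4,0,4,0,5,1] (.step 0 0 [4,0,5,5,1,5,5,2,1,5,0,2,1,2,0,5,1,2,0,5,5,0,4] (.dead 0 1 0))))))]))
theorem hb : Subgroup.centralizer {z | ∃ w ∈ [[2,0,0,0,0,0,2,0,0,0,2,0,0,2,1,1,1,1]], wprod gm w = z} = genW gm [[2,0,0,0,0,0,2,0,0,0,2,0,0,2,1,1,1,1]] :=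
  MG.cen cbL _ [[0],[0,0],[0,0,0],[0,0,0,0],[0,0,0,0,0],[0,0,0,0,0,0],[1]] _ 1 5 cbZ hbT (by decide +kernel) (by decide +kernel)

theorem oa : orderOf (wprod gm [0]) = 23 := MG.ordN _ (by decide +kernel)
theorem ob : orderOf (wprod gm y) = 11 := MG.ordN _ (by decide +kernel)
theorem ca : centralizer {wprod gm [0]} = zpowers (wprod gm [0]) := by rw [← cen_one, ha, genW_single]
theorem cb : centralizer {wprod gm y} = zpowers (wprod gm y) := by
  rw [← cen_one, ← genW_single]; exact hb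
theorem PK : genW gm PW ≤ K23 := genW_le.2 (RP.mem_stab (by decide +kernel))
theorem PH : genW gm PW ≤ genW gm HW := genW_le.2 fun _ h => mem_genW _ (List.mem_append_left [[2]] h)
theorem PN : genW gm PW ≤ normalizer (zpowers (wprod gm [0]) : Set M24) := by
  rw [← genW_single]
  refine genW_le.2 fun w hw => ?_
  simp only [PW, List.mem_cons, List.not_mem_nil, or_false] at hw
  rcases hw with rfl | rfl
  · exact MG.nrm (V := [[0]]) (by decide +kernel)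
  · exact MG.nrm (V := [[0,0]]) (by decide +kernel)

theorem ar (i : Nat) (h : i ∣ 40320) (h1 : i % 23 = 1) (h2 : 23 * i % 11 = 1 ∨ 23 * i % 55 = 5) : i = 1 ∨ i = 40320 := by
  have k : nall (fun i => decide (40320 % i = 0 → i % 23 = 1 → (23 * i % 11 = 1 ∨ 23 * i % 55 = 5) → i = 1 ∨ i = 40320)) 40321 = true := by
    decide +kernel
  exact of_decide_eq_true (nall_iff.1 k i (Nat.lt_succ_of_le (Nat.le_of_dvd (by norm_num) h))) (Nat.mod_eq_zero_of_dvd h) h1 h2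

theorem ar2 {r i s j r' i' s' j' c : Nat} (a1 : r ∣ 23 - 1) (a3 : 10200960 = 23 * r * i) (a4 : i % 23 = 1 % 23) (b1 : s ∣ 11 - 1)
    (b3 : 10200960 = 11 * s * j) (b4 : j % 11 = 1 % 11) (c3 : c = 23 * r' * i') (c4 : i' % 23 = 1 % 23) (d3 : c = 11 * s' * j')
    (d4 : j' % 11 = 1 % 11) (e1 : 253 ≤ 23 * r') (e2 : 23 * r' ≤ 23 * r) (e3 : 11 * s' ∣ 11 * s) (e4 : c ∣ 10200960) :
    c = 253 ∨ c = 10200960 := by
  obtain rfl : r = 11 := by
    have : r ≤ 22 := Nat.le_of_dvd (by norm_num) a1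
    interval_cases r <;> omega
  obtain rfl : s = 5 := by
    have : s ≤ 10 := Nat.le_of_dvd (by norm_num) b1
    interval_cases s <;> omega
  obtain rfl : r' = 11 := by omega
  have e5 : s' = 1 ∨ s' = 5 := (Nat.dvd_prime (by norm_num)).1 (Nat.dvd_of_mul_dvd_mul_left (by norm_num) e3)
  rw [c3] at e4 d3
  rcases ar i' (Nat.dvd_of_mul_dvd_mul_left (k := 23 * 11) (by norm_num) e4) c4 (by
    rcases e5 with rfl | rfl <;> omega) with rfl | rfl
  · exact Or.inl c3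
  · exact Or.inr c3

theorem maxP (K : Subgroup M24) (h1 : genW gm PW ≤ K) (h2 : K ≤ K23) : K = genW gm PW ∨ K = K23 := by
  have xa : wprod gm [0] ∈ genW gm PW := mem_genW _ List.mem_cons_self
  have xb : wprod gm y ∈ genW gm PW := mem_genW _ (List.mem_cons_of_mem _ List.mem_cons_self)
  have n1 : ¬ 23 * 23 ∣ Nat.card M24 := by rw [card24]; norm_num
  have n2 : ¬ 11 * 11 ∣ Nat.card M24 := by rw [card24]; norm_num
  obtain ⟨r, i, a1, a2, a3, a4⟩ := sylN (by norm_num) oa ca n1 K23 (PK xa)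
  obtain ⟨s, j, b1, b2, b3, b4⟩ := sylN (by norm_num) ob cb n2 K23 (PK xb)
  obtain ⟨r', i', -, c2, c3, c4⟩ := sylN (by norm_num) oa ca n1 K (h1 xa)
  obtain ⟨s', j', -, d2, d3, d4⟩ := sylN (by norm_num) ob cb n2 K (h1 xb)
  have e1 := (cP.symm.trans_le (card_le_of_le (le_inf PN h1))).trans_eq c2
  have e2 := (c2.symm.trans_le (card_le_of_le (inf_le_inf_left _ h2))).trans_eq a2
  have e3 := (d2.symm.dvd.trans (card_dvd_of_le (inf_le_inf_left _ h2))).trans b2.dvd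
  have e4 := (card_dvd_of_le h2).trans card23.dvd
  rcases ar2 a1 (card23.symm.trans a3) a4 b1 (card23.symm.trans b3) b4 c3 c4 d3 d4 e1 e2 e3 e4 with h | h
  · exact Or.inl (eq_of_le_of_card_ge h1 (h.trans cP.symm).le).symm
  · exact Or.inr (eq_of_le_of_card_ge h2 (card23.trans h.symm).le)

def tw (i : Nat) : List Nat := if i = 23 then [] else List.replicate i 0 ++ [4]

theorem dec (g : M24) : ∃ h ∈ genW gm HW, h⁻¹ * g ∈ K23 := by
  have k : ∀ i < 24, mapsP lP (substW HW (tw i)) 23 i = true := by decide +kernel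
  refine ⟨_, substW_mem_genW gm HW (tw (ix (g • px 23))), ?_⟩
  rw [mem_stabilizer_iff, mul_smul, inv_smul_eq_iff, RP.maps (by norm_num) (k _ (I.lt _)), I.px_ix]

theorem maxH : IsCoatom (genW gm HW) := by
  refine ⟨fun e => ?_, fun K hK => ?_⟩
  · have := cH
    rw [e, card24t] at this
    omega
  rcases maxP (K ⊓ K23) (le_inf (PH.trans hK.le) PK) inf_le_right with h | h
  · refine absurd (fun g hg => ?_) hK.not_ge
    obtain ⟨a, ha, hb⟩ := dec g
    have : a⁻¹ * g ∈ genW gm PW := h.le (mem_inf.2 ⟨K.mul_mem (K.inv_mem (hK.le ha)) hg, hb⟩)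
    simpa using mul_mem ha (PH this)
  · refine eq_top_iff.2 fun g _ => ?_
    obtain ⟨a, ha, hb⟩ := dec g
    have : a⁻¹ * g ∈ K ⊓ K23 := h.ge hb
    simpa using mul_mem (hK.le ha) this.1

theorem maxP' : IsCoatom ((genW gm PW).subgroupOf K23) := by
  refine ⟨fun e => ?_, fun L hL => ?_⟩
  · have := card_le_of_le (subgroupOf_eq_top.1 e)
    rw [cP, card23] at this
    omega
  have e : (L.map K23.subtype).subgroupOf K23 = L := comap_map_eq_self_of_injective K23.subtype_injective L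
  rcases maxP (L.map K23.subtype) (fun x hx => ⟨⟨x, PK hx⟩, hL.le hx, rfl⟩) (map_subtype_le L) with h | h
  · exact absurd (by rw [← e, h]) hL.ne'
  · rw [← e, h, subgroupOf_self]

def u2 : (ZMod 23)ˣ := ⟨2, 12, by decide, by decide⟩

theorem ey : ((wprod gm y : M24) : Equiv.Perm GolayPt) = Equiv.optionCongr (Units.mulLeft u2) := by
  have k : ∀ i < 24, mapsP lP y i (if i = 23 then 23 else 2 * i % 23) = true := by decide +kernel
  have k2 : ∀ i < 24, px (if i = 23 then 23 else 2 * i % 23) = Equiv.optionCongr (Units.mulLeft u2) (px i) := by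
    decide +kernel
  refine Equiv.ext fun p => ?_
  rw [← I.px_ix p, ← k2 _ (I.lt p)]
  exact RP.maps (I.lt p) (k _ (I.lt p))

theorem sq (u : (ZMod 23)ˣ) (h : IsSquare u) : ∃ k : Nat, Equiv.optionCongr (Units.mulLeft u) =
    (Equiv.optionCongr (Units.mulLeft u2) : Equiv.Perm GolayPt) ^ k := by
  obtain ⟨v, rfl⟩ := h
  have k : ∀ a : ZMod 23, a ≠ 0 → ∃ k : Fin 11, a * a = 2 ^ k.1 := by decide +kernel
  have : Nontrivial (ZMod 23) := ⟨⟨0, 1, by decide⟩⟩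
  obtain ⟨k, hk⟩ := k v v.ne_zero
  refine ⟨k, ?_⟩
  rw [show v * v = u2 ^ k.1 from Units.ext (by simpa [u2] using hk)]
  induction k.1 with
  | zero => exact Equiv.ext fun p => by cases p <;> simp
  | succ n ih => rw [pow_succ' _ n, pow_succ' _ n, ← ih]; exact Equiv.ext fun p => by cases p <;> simp [mul_assoc]

theorem clo (A : Set (Equiv.Perm GolayPt)) (W : List (List Nat)) (hy : y ∈ W)
    (h1 : ∀ a ∈ A, ∃ w ∈ W, ((wprod gm w : M24) : Equiv.Perm GolayPt) = a)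
    (h2 : ∀ w ∈ W, w = y ∨ ((wprod gm w : M24) : Equiv.Perm GolayPt) ∈ A) :
    closure (A ∪ {g : Equiv.Perm GolayPt | ∃ u : (ZMod 23)ˣ, IsSquare u ∧ g = Equiv.optionCongr (Units.mulLeft u)}) =
      (genW gm W).map M24.subtype := by
  refine le_antisymm ((closure_le _).2 ?_) (map_le_iff_le_comap.2 (genW_le.2 fun w hw => subset_closure ?_))
  · rintro a (ha | ⟨u, hu, rfl⟩)
    · obtain ⟨w, hw, rfl⟩ := h1 a ha
      exact ⟨_, mem_genW _ hw, rfl⟩
    · obtain ⟨k, hk⟩ := sq u hu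
      rw [hk, ← ey]
      exact pow_mem (mem_map_of_mem M24.subtype (mem_genW _ hy)) k
  · rcases h2 w hw with rfl | h
    · exact Or.inr ⟨u2, ⟨⟨5, 14, by decide, by decide⟩, Units.ext (by decide)⟩, ey⟩
    · exact Or.inl h

theorem e0 : ((wprod gm [0] : M24) : Equiv.Perm GolayPt) = Equiv.optionCongr (Equiv.addRight (1 : ZMod 23)) :=
  congrArg Subtype.val (wprod_single gm 0)
theorem e1 : ((wprod gm [2] : M24) : Equiv.Perm GolayPt) = projInv := congrArg Subtype.val (wprod_single gm 1)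

theorem cloH : closure ({Equiv.optionCongr (Equiv.addRight (1 : ZMod 23)), projInv} ∪ {g : Equiv.Perm GolayPt |
    ∃ u : (ZMod 23)ˣ, IsSquare u ∧ g = Equiv.optionCongr (Units.mulLeft u)}) = (genW gm HW).map M24.subtype :=
  clo _ HW (by decide) (by
    rintro _ (rfl | rfl)
    exacts [⟨_, by decide, e0⟩, ⟨_, by decide, e1⟩]) (by
    intro w hw
    simp only [HW, List.mem_cons, List.not_mem_nil, or_false] at hw
    rcases hw with rfl | rfl | rfl
    exacts [Or.inr (Or.inl e0), Or.inl rfl, Or.inr (Or.inr e1)])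

theorem cloP : closure ({Equiv.optionCongr (Equiv.addRight (1 : ZMod 23))} ∪ {g : Equiv.Perm GolayPt |
    ∃ u : (ZMod 23)ˣ, IsSquare u ∧ g = Equiv.optionCongr (Units.mulLeft u)}) = (genW gm PW).map M24.subtype :=
  clo _ PW (by decide) (by
    rintro _ rfl
    exact ⟨_, by decide, e0⟩) (by
    intro w hw
    simp only [PW, List.mem_cons, List.not_mem_nil, or_false] at hw
    rcases hw with rfl | rfl
    exacts [Or.inr e0, Or.inl rfl])

theorem so (K : Subgroup M24) : (K.map M24.subtype).subgroupOf M24 = K :=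
  comap_map_eq_self_of_injective M24.subtype_injective K

end CfsgH7.Gol.L2
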