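import Cfsg.Agent.H7.Gol.Fams

/-! Further transport lemmas, flags, the dual code. -/

set_option autoImplicit false
set_option maxRecDepth 100000

namespace CfsgH7.Gol

open Cfsg MulAction
open scoped Pointwise

/-- The union of the bit sets attached to the members of a list. -/
noncomputable def orL (f : Nat → Nat) (L : List Nat) : Nat :=
  List.rec (motive := fun _ => Nat) (nat_lit 0) (fun a _ ih => Nat.lor (f a) ih) L

theorem rb_exL {Ω : Type*} {pt : Nat → Ω} {n : Nat} {f : Nat → Nat} {ψ : Nat → Ω → Prop}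
    (h : ∀ m, Rb pt n (f m) (ψ m)) (L : List Nat) : Rb pt n (orL f L) (fun y => ∃ m ∈ L, ψ m y) := by
  induction L with
  | nil => intro i _; simp [orL]
  | cons a L ih => exact ((h a).or ih).congr fun y => by simp

theorem rb_sub {P : List Nat} (hP : P.length = 24) (n a : Nat) :
    Rb (fpt ix P) n (cntB P n (andn (ones 24) a) 0) (fun s => s ⊆ S a) :=
  (I.rb_inter hP n _ 0).congr fun s => by
    rw [← I.msk_compl, Finset.card_eq_zero, ← Finset.disjoint_iff_inter_eq_empty, disjoint_compl_left_iff]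

theorem rb_disj {P : List Nat} (hP : P.length = 24) (n a : Nat) :
    Rb (fpt ix P) n (cntB P n a 0) (fun s => Disjoint (S a) s) :=
  (I.rb_inter hP n _ 0).congr fun s => by
    rw [Finset.card_eq_zero, ← Finset.disjoint_iff_inter_eq_empty]

theorem oct_list (a : Nat) (L : List Nat) (h : band (lall (fun m => band (isOct m) (subs a m)) L)
    (subs (Nat.land (Nat.land (cntB CP 4096 (ones 24) 8) (cntB CP 4096 a (cnt 5 24 a))) (ones 4096))
      (lm (L.map fun m => Nat.land m 4095))) = true) (o : Finset GolayPt) :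
    (o ∈ octads ∧ S a ⊆ o) ↔ ∃ m ∈ L, o = S m := by
  obtain ⟨h1, h2⟩ := band_iff.1 h
  rw [lall_iff] at h1
  constructor
  · rintro ⟨a1, a2⟩
    obtain ⟨i, hi, rfl⟩ := FC.surj o a1.1
    have := subs_spec h2 (i := i) (by
      rw [land_testBit, ones_testBit, (((rbW 8).and (rbS a)) i hi).2 ⟨a1.2, a2⟩]; simpa using hi)
    obtain ⟨m, hm, rfl⟩ := List.mem_map.1 (lm_testBit.1 this)
    exact ⟨m, hm, cpt_of (band_iff.1 (band_iff.1 (h1 m hm)).1).1⟩
  · rintro ⟨m, hm, rfl⟩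
    exact ⟨oct_of (band_iff.1 (h1 m hm)).1, S_subset (band_iff.1 (h1 m hm)).2⟩

theorem rb_exOct {P : List Nat} (hP : P.length = 24) (n a : Nat) (L : List Nat)
    (h : ∀ o, (o ∈ octads ∧ S a ⊆ o) ↔ ∃ m ∈ L, o = S m) :
    Rb (fpt ix P) n (orL (fun m => cntB P n (andn (ones 24) m) 0) L) (fun s => ∃ o ∈ octads, S a ∪ s ⊆ o) :=
  (rb_exL (rb_sub hP n) L).congr fun s => by
    simp only [Finset.union_subset_iff]
    constructor
    · rintro ⟨m, hm, h1⟩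
      exact ⟨_, ((h _).2 ⟨m, hm, rfl⟩).1, ((h _).2 ⟨m, hm, rfl⟩).2, h1⟩
    · rintro ⟨o, ho, h1, h2⟩
      obtain ⟨m, hm, rfl⟩ := (h o).1 ⟨ho, h1⟩
      exact ⟨m, hm, h2⟩

theorem exOct_smul (c : M24) {s : Finset GolayPt} : (∃ o ∈ octads, c • s ⊆ o) ↔ ∃ o ∈ octads, s ⊆ o := by
  constructor
  · rintro ⟨o, ho, h⟩
    obtain ⟨o, rfl⟩ := ex_smul c o
    exact ⟨o, (moct c).1 ho, (sub_smul c).1 h⟩
  · rintro ⟨o, ho, h⟩
    exact ⟨c • o, (moct c).2 ho, (sub_smul c).2 h⟩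

theorem mem_smul (c : M24) {p : GolayPt} {s : Finset GolayPt} : c • p ∈ c • s ↔ p ∈ s :=
  Finset.smul_mem_smul_finset_iff c

theorem inter_eq_iff {o s y : Finset GolayPt} (h : s ⊆ o) : o ∩ y = s ↔ s ⊆ y ∧ (o ∩ y).card = s.card :=
  ⟨fun e => ⟨e ▸ Finset.inter_subset_right, by rw [e]⟩,
    fun e => (Finset.eq_of_subset_of_card_le (Finset.subset_inter h e.1) e.2.le).symm⟩

theorem map_toFinset {c : M24} {bs : List Nat} (hb : ∀ b ∈ bs, b < 24) {s : Finset GolayPt}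
    (h : (bs.map px).map (c • ·) = s.toList) : c • S (lm bs) = s := by
  rw [S, I.msk_lm hb]
  ext a
  rw [← Finset.mem_toList (s := s), ← h, Finset.mem_smul_finset]
  simp

theorem osets {bs : List Nat} (h : TT KO (S 0x82402f : Set GolayPt) (bs.map px)) (hb : ∀ b ∈ bs, b < 24)
    {o s : Finset GolayPt} (ho : o ∈ octads) (hs : s ⊆ o) (hc : s.card = bs.length) :
    ∃ c : M24, c • S 0x82402f = o ∧ c • S (lm bs) = s := by
  obtain ⟨c, h1, h2⟩ := opts h ho s.toList (by simpa using hc) s.nodup_toList fun x hx => hs (by simpa using hx)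
  exact ⟨c, h1, map_toFinset hb h2⟩

theorem dsets {bs : List Nat} (h : TT K12 (S 0x5335f : Set GolayPt) (bs.map px)) (hb : ∀ b ∈ bs, b < 24)
    {o s : Finset GolayPt} (ho : o ∈ dodecads) (hs : s ⊆ o) (hc : s.card = bs.length) :
    ∃ c : M24, c • S 0x5335f = o ∧ c • S (lm bs) = s := by
  obtain ⟨c, h1, h2⟩ := dpts h ho s.toList (by simpa using hc) s.nodup_toList fun x hx => hs (by simpa using hx)
  exact ⟨c, h1, map_toFinset hb h2⟩

theorem cO0 : (S 0x82402f)ᶜ = S 0x7dbfd0 := by decide +kernel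

theorem tc1 : TT KO (S 0x7dbfd0 : Set GolayPt) ([4].map px) :=
  RP.tt_cons I (a := 0x7dbfd0) (hA_S _) (tt_nil _ _) 4
    ([[0],[2]].map (substW WO)) [0,1,0,1,0,1,1,0] (mem_map_subst memO _) (by decide +kernel)

theorem tc2 : TT KO (S 0x7dbfd0 : Set GolayPt) ([6,4].map px) :=
  RP.tt_cons I (a := 0x7dbfd0) (hA_S _) tc1 6
    ([[0,2,0],[2,0,3,0,2]].map (substW WO)) [0,1,0,1,0,0,1,0] (mem_map_subst memO _) (by decide +kernel)

theorem tc3 : TT KO (S 0x7dbfd0 : Set GolayPt) ([7,6,4].map px) :=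
  RP.tt_cons I (a := 0x7dbfd0) (hA_S _) tc2 7
    ([[0,3,0,2,0,3,0,2],[0,2,2,0,3,0,2,0,3]].map (substW WO)) [0,1,0,1,0,0] (mem_map_subst memO _) (by decide +kernel)

noncomputable abbrev KQ : Subgroup M24 := KO ⊓ stabilizer M24 (px 4)

def WQ : List (List Nat) := [[0,0,4,0,4,0,4],[4,1,4,4,0,5,1,2,5]]

theorem memQ : ∀ w ∈ WQ, wprod gm w ∈ KQ := mem_inf' (I.mem_stab RP (by decide +kernel)) (RP.mem_stab (by decide +kernel))

theorem cardQ : Nat.card KQ = 20160 :=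
  RP.card_stab I.inj genO cardO ⟨4, [0,1,0,1,0,1,1,0], 16⟩ 5 rfl (by decide +kernel)

theorem genQ : genW gm WQ = KQ :=
  RP.gen_of I.inj memQ cardQ [⟨0, [[0],[2]], [0,1,0,1], 8⟩,
  ⟨1, [[1,3]], [0,0,0,0,0,0], 7⟩,
  ⟨3, [[2,2,2],[0,3,0,0,3]], [0,1,0,1,1], 6⟩,
  ⟨5, [[1,2,2,1,2,1,2]], [0,0,0,0], 5⟩,
  ⟨2, [[2,0,2,2,2,1,3],[0,2,0,2,2,1,2,1]], [0,1,0], 4⟩,
  ⟨6, [[1,1,2,2,0,0]], [0,0], 3⟩] 5 (by decide +kernel)

theorem tq1 : TT KQ (S 0x82402f : Set GolayPt) ([23].map px) :=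
  RP.tt_cons I (a := 0x82402f) (hA_S _) (tt_nil _ _) 23
    ([[2],[0,2]].map (substW WQ)) [0,0,1,0,1,0] (mem_map_subst memQ _) (by decide +kernel)

theorem tq2 : TT KQ (S 0x82402f : Set GolayPt) ([0,23].map px) :=
  RP.tt_cons I (a := 0x82402f) (hA_S _) tq1 0
    ([[0]].map (substW WQ)) [0,0,0,0,0,0] (mem_map_subst memQ _) (by decide +kernel)

theorem tq3 : TT KQ (S 0x82402f : Set GolayPt) ([1,0,23].map px) :=
  RP.tt_cons I (a := 0x82402f) (hA_S _) tq2 1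
    ([[1,2,1,2],[1,2,1,3,3]].map (substW WQ)) [0,0,1,0,0] (mem_map_subst memQ _) (by decide +kernel)

theorem tq4 : TT KQ (S 0x82402f : Set GolayPt) ([2,1,0,23].map px) :=
  RP.tt_cons I (a := 0x82402f) (hA_S _) tq3 2
    ([[2,2,2],[0,3,3,1,3,3,0]].map (substW WQ)) [0,1,1] (mem_map_subst memQ _) (by decide +kernel)

theorem tq5 : TT KQ (S 0x82402f : Set GolayPt) ([3,2,1,0,23].map px) :=
  RP.tt_cons I (a := 0x82402f) (hA_S _) tq4 3
    ([[0,2,1,2,0,2,1,2],[1,1,1,2,1,3,1,2]].map (substW WQ)) [0,0,1] (mem_map_subst memQ _) (by decide +kernel)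

theorem tq6 : TT KQ (S 0x82402f : Set GolayPt) ([5,3,2,1,0,23].map px) :=
  RP.tt_cons I (a := 0x82402f) (hA_S _) tq5 5
    ([[0,3,1,1,3,1,1,3,1,2]].map (substW WQ)) [0,0] (mem_map_subst memQ _) (by decide +kernel)

theorem opt_out {o : Finset GolayPt} (ho : o ∈ octads) {p : GolayPt} (hp : p ∉ o) :
    ∃ c : M24, c • S 0x82402f = o ∧ c • px 4 = p := by
  obtain ⟨c, rfl⟩ := oct_tr ho
  obtain ⟨k, _, e⟩ := tc1.lift le_rfl (by rw [← cO0]; exact stab_inv fun x hx => stab_compl hx) c [p] rfl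
    (by simp) fun x h => by
      rw [← cO0, Finset.mem_coe, Finset.mem_compl, Finset.inv_smul_mem_iff, List.mem_singleton.1 h]; exact hp
  exact ⟨_, e.1, by simpa using e.2⟩

theorem qpts {bs : List GolayPt} (h : TT KQ (S 0x82402f : Set GolayPt) bs) {o : Finset GolayPt} (ho : o ∈ octads)
    {q : GolayPt} (hq : q ∉ o) (xs : List GolayPt) (hl : xs.length = bs.length) (hn : xs.Nodup)
    (hx : ∀ x ∈ xs, x ∈ o) : ∃ c : M24, c • S 0x82402f = o ∧ c • px 4 = q ∧ bs.map (c • ·) = xs := by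
  obtain ⟨c, rfl, rfl⟩ := opt_out ho hq
  obtain ⟨k, hk, _, e⟩ := h.lift (a := px 4) inf_le_right (stab_inv inf_le_left) c xs hl hn
    fun x h => Finset.inv_smul_mem_iff.2 (hx x h)
  refine ⟨c * k, ?_, by rw [mul_smul, hk.2], e⟩
  have : k • S 0x82402f = S 0x82402f := hk.1
  rw [mul_smul, this]

theorem dod_pair_tr : ∀ k < 13, ∀ y ∈ U, ∀ z ∈ U, (y.card = 12 ∧ (S 0x5335f ∩ y).card = k) →
    (z.card = 12 ∧ (S 0x5335f ∩ z).card = k) → ∃ x ∈ K12, x • y = z :=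
  FC.trK RC mem12 (fun k => (rbW 12).and (rbI 0x5335f k)) 13 [3232,0,0,0,34,0,13,0,31,0,0,0,863] [[],[],[],[],[0,0,0,0,1,0,0,0,0,1,0,0,0,0,1,0,0,0,0,1,0,0,0,0,1,0,0,0],[],[0,0,0,0,1,0,0,0,0,1,0,0,0,0,1,0,0,0,0,1,0,0,0,0,1,0,0,0,0,1,0,0],[],[0,0,0,0,1,0,0,0,0,1,0,0,0,0,1,0,0,0,0,1,0,0,0,0,1,0,0,0,0],[],[],[],[]] (by decide +kernel)

theorem oct_pair {a b : Finset GolayPt} (ha : a ∈ octads) (hb : b ∈ octads) {m : Nat} (hm : isOct m = true)
    (h : (a ∩ b).card = cnt 5 24 (Nat.land 0x82402f m)) : ∃ c : M24, c • S 0x82402f = a ∧ c • S m = b := by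
  obtain ⟨c, rfl⟩ := oct_tr ha
  obtain ⟨b, rfl⟩ := ex_smul c b
  rw [moct] at hb
  rw [card_inter_smul, ← card_S, S, S, ← msk_inter] at h
  obtain ⟨k, hk, e⟩ := oct_pair_tr _ (Nat.lt_succ_of_le ((Finset.card_le_card Finset.inter_subset_right).trans
    hb.2.le)) _ (oct_of hm).1 b hb.1 ⟨(oct_of hm).2, h.symm⟩ ⟨hb.2, rfl⟩
  have hk' : k • S 0x82402f = S 0x82402f := hk
  have e' : k • S m = b := e
  exact ⟨c * k, by rw [mul_smul, hk'], by rw [mul_smul, e']⟩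

noncomputable abbrev KO0 : Subgroup M24 := KO ⊓ stabilizer M24 (S 0x149f00)

def WO0 : List (List Nat) := [[0,2,0,0,0,5,1,4],[1,1,5,1,5,1,5,0],[0,0,0,5,5,1,5,5,1]]

theorem memO0 : ∀ w ∈ WO0, wprod gm w ∈ KO0 := mem_inf' (I.mem_stab RP (by decide +kernel)) (I.mem_stab RP (by decide +kernel))

theorem cardO0 : Nat.card KO0 = 10752 :=
  RC.card_stab FC.inj genO cardO ⟨3840, [0,1,0,1,1,0,1,1,1], 30⟩ 12 (cpt_at 3840 0x149f00 (by decide +kernel)) (by decide +kernel)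

theorem genO0 : genW gm WO0 = KO0 :=
  RP.gen_of I.inj memO0 cardO0 [⟨0, [[0],[4]], [0,1,0,0,0], 8⟩,
  ⟨1, [[2],[0,0,4]], [0,1,1,0,1,1], 7⟩,
  ⟨2, [[1,2,4,2],[1,4,0,5]], [0,0,1,0], 6⟩,
  ⟨3, [[0,2,1],[4,0,0,2,0,5]], [0,1], 4⟩,
  ⟨4, [[4,4,4],[0,4,4,4,1],[1,4,4,4,0]], [0,1,2], 8⟩] 5 (by decide +kernel)

noncomputable abbrev KO4 : Subgroup M24 := KO ⊓ stabilizer M24 (S 0xc75001)

def WO4 : List (List Nat) := [[1,5,1,5,1,5],[1,5,0,4,0,0,0,4,4],[0,5,0,4,4,0,0,5,0,2]]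

theorem memO4 : ∀ w ∈ WO4, wprod gm w ∈ KO4 := mem_inf' (I.mem_stab RP (by decide +kernel)) (I.mem_stab RP (by decide +kernel))

theorem cardO4 : Nat.card KO4 = 1152 :=
  RC.card_stab FC.inj genO cardO ⟨1, [0,1,0,1,0,1,0,1,1,0,1,1,0,1,0,1,1,1,0], 280⟩ 12 (cpt_at 1 0xc75001 (by decide +kernel)) (by decide +kernel)

theorem genO4 : genW gm WO4 = KO4 :=
  RP.gen_of I.inj memO4 cardO4 [⟨2, [[0],[4]], [0,1,1], 4⟩,
  ⟨0, [[2],[0,4,0]], [0,0,1], 4⟩,
  ⟨1, [[4,0,5],[0,4,4,0]], [0,1], 3⟩,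
  ⟨4, [[4,2,5],[5,0,4]], [0,1,0,0,1,0], 12⟩,
  ⟨3, [[2,5,5,3,4,0,4]], [0], 2⟩] 5 (by decide +kernel)

noncomputable abbrev KO2 : Subgroup M24 := KO ⊓ stabilizer M24 (S 0x49f002)

def WO2 : List (List Nat) := [[2,0,0,4,1,1,5,0,5],[0,0,5,1,1,4,1,1,4,0,0,4]]

theorem memO2 : ∀ w ∈ WO2, wprod gm w ∈ KO2 := mem_inf' (I.mem_stab RP (by decide +kernel)) (I.mem_stab RP (by decide +kernel))

theorem cardO2 : Nat.card KO2 = 720 :=
  RC.card_stab FC.inj genO cardO ⟨2, [0,1,0,1,0,1,0,1,0,1,0,1,0,1,1,0,1,1,0,1], 448⟩ 12 (cpt_at 2 0x49f002 (by decide +kernel)) (by decide +kernel)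

theorem genO2 : genW gm WO2 = KO2 :=
  RP.gen_of I.inj memO2 cardO2 [⟨0, [[0],[2]], [0,0,0,1,1], 6⟩,
  ⟨2, [[0,0,2]], [0,0,0,0], 5⟩,
  ⟨3, [[0,2,0,2],[1,3,3,1,3]], [0,0,1], 4⟩,
  ⟨1, [[0,3,0,0,2,2]], [0], 2⟩,
  ⟨4, [[1,3,1,3,0,0,3]], [0,0], 3⟩] 5 (by decide +kernel)

noncomputable abbrev K17 : Subgroup M24 := K19 ⊓ stabilizer M24 (px 4)

def W17 : List (List Nat) := [[4,0,4,0,4,1,5,0,5,5,0,0,4,0,4]]

theorem mem17 : ∀ w ∈ W17, wprod gm w ∈ K17 := mem_inf' (mem_inf' (mem_inf' (mem_inf' (mem_inf' (RP.mem_stab (by decide +kernel)) (RP.mem_stab (by decide +kernel))) (RP.mem_stab (by decide +kernel))) (RP.mem_stab (by decide +kernel))) (RP.mem_stab (by decide +kernel))) (RP.mem_stab (by decide +kernel))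

theorem card17 : Nat.card K17 = 3 :=
  RP.card_stab I.inj gen19 card19 ⟨4, [0,1,0,1,2], 16⟩ 5 rfl (by decide +kernel)

theorem gen17 : genW gm W17 = K17 :=
  RP.gen_of I.inj mem17 card17 [⟨5, [[0]], [0,0], 3⟩] 5 (by decide +kernel)

theorem six_tr (xs : List GolayPt) (hl : xs.length = 6) (hn : xs.Nodup) :
    ∃ c : M24, ([5,3,2,1,0,23].map px).map (c • ·) = xs ∨ ([4,3,2,1,0,23].map px).map (c • ·) = xs := by
  obtain ⟨x, ys, rfl⟩ := List.exists_cons_of_length_eq_add_one hl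
  obtain ⟨h1, h2⟩ := List.nodup_cons.1 hn
  obtain ⟨c, rfl⟩ := pts tt5 ys (by simpa using hl) h2
  obtain ⟨x, rfl⟩ := ex_smul c x
  have h3 : x ∉ S 0x80000f := fun h => h1 (List.mem_map.2 ⟨x, by
    rw [show S 0x80000f = ([3,2,1,0,23].map px).toFinset from I.msk_lm (bs := [3,2,1,0,23]) (by decide)] at h
    exact List.mem_toFinset.1 h, rfl⟩)
  have key : ∀ k ∈ K19, ∀ b, k • px b = x → ((b :: [3,2,1,0,23]).map px).map ((c * k) • ·) =
      c • x :: ([3,2,1,0,23].map px).map (c • ·) := by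
    rintro k ⟨⟨⟨⟨a1, a2⟩, a3⟩, a4⟩, a5⟩ b rfl
    have b1 : k • px 23 = px 23 := a1
    have b2 : k • px 0 = px 0 := a2
    have b3 : k • px 1 = px 1 := a3
    have b4 : k • px 2 = px 2 := a4
    have b5 : k • px 3 = px 3 := a5
    simp only [List.map_cons, List.map_nil, mul_smul, b1, b2, b3, b4, b5]
  by_cases h : x ∈ S 0x82402f
  · obtain ⟨k, hk, e⟩ := I.fam.tr RP mem19 ((I.rb_mem 0x82402f).andn (I.rb_mem 0x80000f)) [0,0] 5 rfl
      (by decide +kernel) x trivial ⟨h, h3⟩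
    exact ⟨c * k, Or.inl (key k hk 5 e)⟩
  · obtain ⟨k, hk, e⟩ := I.fam.tr RP mem19 (I.rb_mem 0x82402f).not [0,1,0,1,2] 4 rfl (by decide +kernel) x trivial h
    exact ⟨c * k, Or.inr (key k hk 4 e)⟩

theorem dual {s : Finset GolayPt} (h : ∀ o ∈ octads, Even (o ∩ s).card) : s ∈ U := by
  obtain ⟨a, ha, rfl⟩ := I.exists_msk s
  have h1 := cw_spec (c := a % 4096) (Nat.mod_lt _ (by norm_num))
  have h2 : ∀ u < 4096, u ≠ 0 → (BS.any fun b => Nat.beq (cnt 5 24 (Nat.land b (u * 4096)) % 2) 1) = true := by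
    have : nall2 (fun u => Nat.beq u 0 || BS.any fun b => Nat.beq (cnt 5 24 (Nat.land b (u * 4096)) % 2) 1)
      0 64 64 = true := by decide +kernel
    intro u hu h0
    rcases Bool.or_eq_true_iff.1 (nall2_spec this u (Nat.zero_le u) hu) with e | e
    · exact absurd (Nat.eq_of_beq_eq_true e) h0
    · exact e
  set b := cwm (a % 4096) with hb
  have h3 : (a ^^^ b) % 4096 = 0 := by
    have e : b % 2 ^ 12 = a % 4096 := by rw [← Nat.and_two_pow_sub_one_eq_mod]; exact h1.2.1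
    rw [show 4096 = 2 ^ 12 from rfl, Nat.xor_mod_two_pow, e]
    exact Nat.xor_self _
  have h4 : a ^^^ b < 2 ^ 24 := Nat.xor_lt_two_pow ha h1.2.2
  by_cases h0 : (a ^^^ b) / 4096 = 0
  · have : a ^^^ b = 0 := by omega
    rw [Nat.xor_eq_zero_iff.1 this]; exact U_cwm _
  · exfalso
    obtain ⟨o, ho, e⟩ := List.any_eq_true.1 (h2 _ (by omega) h0)
    have ho' : S o ∈ octads := oct_of (lall_iff.1 (by decide +kernel : lall isOct BS = true) o ho)
    have e' := Nat.eq_of_beq_eq_true e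
    rw [show (a ^^^ b) / 4096 * 4096 = Nat.xor a b by show _ = a ^^^ b; omega, ← card_S, S, ← msk_inter,
      ← msk_symmDiff, ← Finset.inf_eq_inter, inf_symmDiff_distrib_left,
      Finset.inf_eq_inter, Finset.inf_eq_inter] at e'
    have h5 := card_symmDiff (S o ∩ S a) (S o ∩ S b)
    have h6 := h _ ho'
    have h7 := card_symmDiff (S o) (S b)
    have h8 := wt (U_xor ho'.1 (U_cwm (a % 4096)))
    have h9 := wt (U_cwm (a % 4096))
    rw [ho'.2] at h7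
    rw [Nat.even_iff] at h6
    simp only [S, ← hb] at *
    omega

theorem reduce (s : Finset GolayPt) : ∃ t : Finset GolayPt, t.card ≤ 4 ∧ symmDiff s t ∈ U := by
  induction h : s.card using Nat.strong_induction_on generalizing s with
  | _ n ih =>
    by_cases h4 : s.card ≤ 4
    · exact ⟨s, h4, by rw [symmDiff_self]; exact U_empty⟩
    · obtain ⟨f, hf, h5⟩ := Finset.exists_subset_card_eq (show 5 ≤ s.card by omega)
      obtain ⟨o, ho, h6⟩ := oct_ex h5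
      have h7 := card_symmDiff s o
      have h8 := Finset.card_le_card (Finset.subset_inter hf h6)
      rw [ho.2] at h7
      obtain ⟨t, ht, h9⟩ := ih _ (by omega) (symmDiff s o) rfl
      refine ⟨t, ht, ?_⟩
      have := U_xor h9 ho.1
      rwa [symmDiff_right_comm, symmDiff_symmDiff_cancel_right] at this

end CfsgH7.Gol
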